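import Mathlib.NumberTheory.Multiplicity
import Mathlib.NumberTheory.Padics.PadicVal.Basic
import Mathlib.Algebra.Ring.Subring.Basic
import Mathlib.Algebra.Group.Subgroup.Finite
import Mathlib.GroupTheory.OrderOfElement
import Mathlib.Algebra.Group.Hom.End
import Mathlib.Data.ZMod.Basic
import Mathlib.Tactic.LinearCombination
import Mathlib.Tactic.Positivity

/-!
# Irreducible cyclic operators and the arithmetic of `q ^ (m + 1) = 2 ^ i + 1`
-/

set_option autoImplicit false
set_option linter.style.haveILetI false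

namespace CfsgLib.PGroup.ShultGross

open scoped IsMulCommutative

universe u

/-- An automorphism without invariant subgroups satisfies `f ^ (|V| - 1) = 1`. -/
theorem pow_card_sub_one_of_irreducible {V : Type u} [CommGroup V] [Finite V] (f : MulAut V)
    (hirr : ∀ U : Subgroup V, (∀ v ∈ U, f v ∈ U) → U = ⊥ ∨ U = ⊤) {v₀ : V} (hv₀ : v₀ ≠ 1) :
    f ^ (Nat.card V - 1) = 1 := by
  classical
  let F : AddMonoid.End (Additive V) := MonoidHom.toAdditive (f : V →* V)
  let A : Subring (AddMonoid.End (Additive V)) := Subring.closure {F}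
  haveI : IsMulCommutative A := Subring.isMulCommutative_closure (by
    intro x hx y hy
    rw [Set.mem_singleton_iff.1 hx, Set.mem_singleton_iff.1 hy])
  let Fa : A := ⟨F, Subring.subset_closure rfl⟩
  haveI : Finite (Additive V) := Finite.of_equiv V Additive.ofMul
  haveI : Finite (AddMonoid.End (Additive V)) :=
    Finite.of_injective (fun e : AddMonoid.End (Additive V) => (e : Additive V → Additive V))
      DFunLike.coe_injective
  haveI : Finite A := inferInstance
  have hcomm : ∀ (e : A) (x : Additive V), (e : AddMonoid.End (Additive V)) (F x) =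
      F ((e : AddMonoid.End (Additive V)) x) := fun e x =>
    DFunLike.congr_fun (congrArg Subtype.val (mul_comm e Fa)) x
  have hinv : ∀ (S : AddSubgroup (Additive V)), (∀ x ∈ S, F x ∈ S) → S = ⊥ ∨ S = ⊤ := by
    intro S hS
    rcases hirr (AddSubgroup.toSubgroup' S) (fun v hv => hS (Additive.ofMul v) hv) with h | h
    · left
      exact AddSubgroup.toSubgroup'.injective (h.trans (by ext; simp))
    · right
      exact AddSubgroup.toSubgroup'.injective (h.trans (by ext; simp))
  have hinj : ∀ e : A, e ≠ 0 → Function.Injective (e : AddMonoid.End (Additive V)) := by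
    intro e he
    rcases hinv (AddMonoidHom.ker (e : AddMonoid.End (Additive V))) (fun x hx => by
      have hx' : (e : AddMonoid.End (Additive V)) x = 0 := hx
      show (e : AddMonoid.End (Additive V)) (F x) = 0
      rw [hcomm, hx', map_zero]) with h | h
    · exact (AddMonoidHom.ker_eq_bot_iff _).1 h
    · exact absurd (Subtype.ext (AddMonoidHom.ext fun x =>
        (AddMonoidHom.mem_ker).1 (h.ge (AddSubgroup.mem_top x)))) he
  have hdom : ∀ a b : A, a ≠ 0 → b ≠ 0 → a * b ≠ 0 := by
    intro a b ha hb h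
    exact hb (Subtype.ext (AddMonoidHom.ext fun x => hinj a ha
      ((DFunLike.congr_fun (congrArg Subtype.val h) x).trans (map_zero (a : AddMonoid.End (Additive V))).symm)))
  set x₀ : Additive V := Additive.ofMul v₀
  have hx₀ : x₀ ≠ 0 := hv₀
  let ev : A →+ Additive V :=
    { toFun := fun e => (e : AddMonoid.End (Additive V)) x₀, map_zero' := rfl, map_add' := fun _ _ => rfl }
  have hevi : Function.Injective ev := by
    rw [injective_iff_map_eq_zero]
    intro e he
    by_contra h
    exact hx₀ (hinj e h (he.trans (map_zero _).symm))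
  have hevs : Function.Surjective ev := by
    rw [← AddMonoidHom.range_eq_top]
    rcases hinv ev.range (fun x ⟨e, he⟩ => ⟨Fa * e, by
      show F ((e : AddMonoid.End (Additive V)) x₀) = F x
      exact congrArg F he⟩) with h | h
    · exfalso
      have : x₀ ∈ ev.range := ⟨1, rfl⟩
      rw [h, AddSubgroup.mem_bot] at this
      exact hx₀ this
    · exact h
  have hcard : Nat.card A = Nat.card V :=
    (Nat.card_eq_of_bijective ev ⟨hevi, hevs⟩).trans (Nat.card_congr Additive.toMul)
  have hFa : Fa ≠ 0 := fun h => hv₀ (by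
    have h1 : F x₀ = 0 := DFunLike.congr_fun (congrArg Subtype.val h) x₀
    exact f.injective ((h1 : f v₀ = 1).trans (map_one f).symm))
  haveI := Fintype.ofFinite A
  let S := (Finset.univ : Finset A).erase 0
  have hprod : ∏ a ∈ S, a ≠ (0 : A) := by
    refine Finset.prod_induction (fun a => a) (fun a => a ≠ 0) hdom (fun h10 => ?_)
      (fun a ha => (Finset.mem_erase.1 ha).1)
    exact hx₀ (DFunLike.congr_fun (congrArg Subtype.val h10) x₀)
  have hmulinj : Function.Injective fun a : A => Fa * a := by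
    intro a b h
    by_contra hab
    exact hdom Fa (a - b) hFa (sub_ne_zero.2 hab) (by rw [mul_sub, sub_eq_zero]; exact h)
  have hperm : ∏ a ∈ S, Fa * a = ∏ a ∈ S, a := by
    refine Finset.prod_bij (fun a _ => Fa * a) (fun a ha => ?_) (fun a _ b _ h => hmulinj h)
      (fun b hb => ?_) (fun a _ => rfl)
    · exact Finset.mem_erase.2 ⟨hdom Fa a hFa (Finset.mem_erase.1 ha).1, Finset.mem_univ _⟩
    · obtain ⟨a, ha⟩ := Finite.injective_iff_surjective.1 hmulinj b
      refine ⟨a, Finset.mem_erase.2 ⟨fun e => (Finset.mem_erase.1 hb).1 ?_, Finset.mem_univ _⟩, ha⟩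
      simp only at ha
      rw [← ha, e, mul_zero]
  rw [Finset.prod_mul_distrib, Finset.prod_const, Finset.card_erase_of_mem (Finset.mem_univ _),
    Finset.card_univ, ← Nat.card_eq_fintype_card, hcard] at hperm
  have h1 : Fa ^ (Nat.card V - 1) = 1 := by
    by_contra h
    exact hdom (Fa ^ (Nat.card V - 1) - 1) _ (sub_ne_zero.2 h) hprod (by
      rw [sub_mul, one_mul, hperm, sub_self])
  have hpow : ∀ (n : ℕ) (v : V), ((Fa ^ n : A) : AddMonoid.End (Additive V)) (Additive.ofMul v) =
      Additive.ofMul ((f ^ n) v) := by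
    intro n
    induction n with
    | zero => intro v; rfl
    | succ n ih =>
      intro v
      rw [pow_succ', pow_succ']
      show F (((Fa ^ n : A) : AddMonoid.End (Additive V)) (Additive.ofMul v)) = _
      rw [ih]; rfl
  refine MulEquiv.ext fun v => ?_
  have h2 := hpow (Nat.card V - 1) v
  rw [h1] at h2
  exact (Additive.ofMul.injective h2).symm

/-- If `q ^ (m + 1) = 2 ^ i + 1` and `q ^ (m + 1 + j) ∣ 2 ^ D - 1` then `2 i q ^ j ∣ D`. -/
theorem two_mul_pow_dvd {q m i j D : ℕ} (hq : q.Prime) (hq2 : q ≠ 2) (hi : q ^ (m + 1) = 2 ^ i + 1)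
    (hD : q ^ (m + 1 + j) ∣ 2 ^ D - 1) : 2 * i * q ^ j ∣ D := by
  haveI := Fact.mk hq
  rcases Nat.eq_zero_or_pos D with rfl | hD0
  · exact dvd_zero _
  set N := q ^ (m + 1) with hN
  have hN2 : 2 < N := lt_of_lt_of_le (lt_of_le_of_ne hq.two_le (Ne.symm hq2)) (Nat.le_self_pow (Nat.succ_ne_zero m) q)
  have hi0 : i ≠ 0 := by
    rintro rfl
    rw [pow_zero] at hi
    omega
  -- work modulo `N`
  have hmod : (2 : ZMod N) ^ i = -1 := by
    have h1 : ((2 ^ i + 1 : ℕ) : ZMod N) = 0 := by rw [← hi]; exact ZMod.natCast_self N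
    push_cast at h1
    linear_combination h1
  have h2i : (2 : ZMod N) ^ (2 * i) = 1 := by rw [mul_comm, pow_mul, hmod]; ring
  have hDN : (2 : ZMod N) ^ D = 1 := by
    have hdvd : N ∣ 2 ^ D - 1 := (pow_dvd_pow q (Nat.le_add_right _ _)).trans hD
    have := (ZMod.natCast_eq_zero_iff _ _).2 hdvd
    rw [Nat.cast_sub Nat.one_le_two_pow, sub_eq_zero] at this
    exact_mod_cast this
  have hs : D % (2 * i) = 0 := by
    set s := D % (2 * i) with hs
    have hsD : (2 : ZMod N) ^ s = 1 := by
      rw [← hDN, ← Nat.div_add_mod D (2 * i), pow_add, pow_mul, h2i, one_pow, one_mul]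
    have hslt : s < 2 * i := Nat.mod_lt _ (by omega)
    by_contra hs0
    rcases Nat.lt_or_ge i s with hgt | hle
    · have h3 : ((2 ^ (s - i) + 1 : ℕ) : ZMod N) = 0 := by
        rw [← Nat.add_sub_cancel' hgt.le, pow_add, hmod] at hsD
        push_cast
        linear_combination -hsD
      have h4 := Nat.le_of_dvd (Nat.succ_pos _) ((ZMod.natCast_eq_zero_iff _ _).1 h3)
      have h5 : 2 ^ (s - i) < 2 ^ i := Nat.pow_lt_pow_right (by norm_num) (by omega)
      omega
    · have h3 : ((2 ^ s - 1 : ℕ) : ZMod N) = 0 := by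
        rw [Nat.cast_sub Nat.one_le_two_pow]
        push_cast
        rw [hsD, sub_self]
      have h6 : 1 < 2 ^ s := Nat.one_lt_pow hs0 (by norm_num)
      have h4 := Nat.le_of_dvd (by omega) ((ZMod.natCast_eq_zero_iff _ _).1 h3)
      have h5 : 2 ^ s ≤ 2 ^ i := Nat.pow_le_pow_right (by norm_num) hle
      omega
  obtain ⟨e, rfl⟩ := Nat.dvd_of_mod_eq_zero hs
  refine Nat.mul_dvd_mul_left _ ?_
  have he0 : e ≠ 0 := by rintro rfl; simp at hD0
  have hodd : Odd q := hq.odd_of_ne_two hq2
  have hx : ¬ q ∣ 2 ^ (2 * i) := fun h =>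
    hq2 ((Nat.prime_dvd_prime_iff_eq hq Nat.prime_two).1 (hq.dvd_of_dvd_pow h))
  have hfac : 2 ^ (2 * i) - 1 = (2 ^ i - 1) * N := by
    rw [hi, show 2 * i = i + i by omega, pow_add]
    have := Nat.one_le_two_pow (n := i)
    rw [Nat.sub_mul, one_mul, Nat.mul_add, mul_one]
    omega
  have hndvd : ¬ q ∣ 2 ^ i - 1 := by
    intro h
    have h1 : q ∣ 2 ^ i + 1 := hi ▸ (dvd_pow_self q (Nat.succ_ne_zero m))
    have h2 := Nat.dvd_sub h1 h
    have := Nat.one_le_two_pow (n := i)
    rw [show 2 ^ i + 1 - (2 ^ i - 1) = 2 by omega] at h2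
    exact hq2 ((Nat.prime_dvd_prime_iff_eq hq Nat.prime_two).1 h2)
  have hpos : 2 ^ i - 1 ≠ 0 := by
    have := Nat.one_lt_pow hi0 (show 1 < 2 by norm_num)
    omega
  have hv : padicValNat q (2 ^ (2 * i) - 1) = m + 1 := by
    rw [hfac, padicValNat.mul hpos (by omega), padicValNat.eq_zero_of_not_dvd hndvd, zero_add, hN,
      padicValNat.prime_pow]
  have hlte := padicValNat.pow_sub_pow (p := q) hodd (x := 2 ^ (2 * i)) (y := 1)
    (Nat.one_lt_pow (by omega) (by norm_num))
    (by rw [hfac]; exact (hN ▸ dvd_pow_self q (Nat.succ_ne_zero m)).mul_left _) hx he0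
  rw [one_pow, hv, ← pow_mul] at hlte
  have hne : 2 ^ (2 * i * e) - 1 ≠ 0 := by
    have := Nat.one_lt_pow (show 2 * i * e ≠ 0 by positivity) (show 1 < 2 by norm_num)
    omega
  have h7 := (padicValNat_dvd_iff_le hne).1 hD
  exact (padicValNat_dvd_iff_le he0).2 (by omega)

end CfsgLib.PGroup.ShultGross
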