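import Cfsg.Agent.Lib.PGroup.ShultGross.Count
import Cfsg.Agent.Lib.PGroup.ShultGross.Arith
import Cfsg.Agent.Lib.PGroup.PqWeights
import Cfsg.Agent.Lib.Coprime.Action
import Cfsg.Agent.Lib.Coprime.PGroupFrattini

/-!
# A fixed-point-free operator of odd prime power order: its socle centralizes

If `a ^ q ^ (n + 1) = 1`, `q` odd, and `a` acts without fixed points on an `r`-group `R` and on a
module `W` of `R ⟨a⟩` in coprime characteristic, then `a ^ q ^ n` centralizes the image of `R`.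
-/

set_option autoImplicit false
set_option linter.style.haveILetI false
set_option linter.unusedSectionVars false
set_option maxHeartbeats 800000

namespace CfsgLib.PGroup.ShultGross

open CfsgLib.PGroup
open Subgroup
open scoped commutatorElement

universe u v w

variable {H : Type u} [Group H] {k : Type v} [Field k] {W : Type w} [AddCommGroup W] [Module k W]

/-- The `q`-part of an exponent stays in a subgroup. -/
theorem exists_pow_prime_mem {S : Subgroup H} {a : H} {q N i : ℕ} (hq : q.Prime) (ha : a ^ q ^ N = 1)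
    (hi : i ≠ 0) (hmem : a ^ i ∈ S) : ∃ j, q ^ j ∣ i ∧ a ^ q ^ j ∈ S := by
  obtain ⟨j, u, hu, rfl⟩ : ∃ j u, ¬ q ∣ u ∧ i = q ^ j * u :=
    ⟨_, _, Nat.not_dvd_ordCompl hq hi, (Nat.ordProj_mul_ordCompl_eq_self i q).symm⟩
  have hco : u.Coprime (orderOf (a ^ q ^ j)) := by
    refine ((hq.coprime_iff_not_dvd.2 hu).symm.pow_right N).coprime_dvd_right ?_
    exact orderOf_dvd_of_pow_eq_one (by rw [← pow_mul, mul_comm, pow_mul, ha, one_pow])
  obtain ⟨d, hd⟩ := exists_pow_eq_self_of_coprime hco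
  exact ⟨j, dvd_mul_right _ _, by rw [← hd, ← pow_mul a]; exact pow_mem hmem d⟩

/-- An operator permuting eigencharacters freely below the exponent `N` has a fixed vector. -/
theorem exists_fixed_of_free (ρ : H →* Module.End k W) {Y : Subgroup H} [Fintype Y]
    (hk : (Fintype.card Y : k) ≠ 0) {a : H} {N : ℕ} (hN : 0 < N) (haY : a ∈ normalizer (Y : Set H))
    {χ : Y →* kˣ} {f : W} (hf : IsEigen ρ Y χ f) (hf0 : f ≠ 0) (haN : ρ (a ^ N) f = f)
    (hfree : ∀ i, i < N → i ≠ 0 → a ^ i ∉ charStab Y χ) : ∃ w, w ≠ 0 ∧ ρ a w = w := by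
  have hpow : ∀ i : ℕ, a ^ i ∈ normalizer (Y : Set H) := fun i => pow_mem haY i
  refine ⟨∑ i ∈ Finset.range N, ρ (a ^ i) f, ?_, ?_⟩
  · intro h0
    have e := congrArg (eigProj ρ χ) h0
    rw [map_sum, map_zero, Finset.sum_eq_single 0 (fun i hi hi0 => ?_)
      (fun h => absurd (Finset.mem_range.2 hN) h), pow_zero, map_one, Module.End.one_apply,
      eigProj_self ρ hf] at e
    · exact hf0 ((smul_eq_zero.1 e).resolve_left hk)
    · exact eigProj_ne ρ (hf.map ρ (hpow i)) fun e' =>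
        hfree i (Finset.mem_range.1 hi) hi0 ⟨hpow i, e'.symm⟩
  · have e1 : ρ a (∑ i ∈ Finset.range N, ρ (a ^ i) f) = ∑ i ∈ Finset.range N, ρ (a ^ (i + 1)) f := by
      rw [map_sum]
      exact Finset.sum_congr rfl fun i _ => by rw [← rep_mul_apply, pow_succ']
    have e2 := Finset.sum_range_succ' (fun i => ρ (a ^ i) f) N
    rw [Finset.sum_range_succ, haN, pow_zero, map_one, Module.End.one_apply, ← e1, add_left_inj] at e2
    exact e2.symm

variable [Finite H] [IsAlgClosed k] [FiniteDimensional k W]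

/-- The faithful case. -/
theorem centralizes_faithful (ρ : H →* Module.End k W) (hinj : Function.Injective ρ) {r q n : ℕ}
    (hr : r.Prime) (hq : q.Prime) (hq2 : q ≠ 2) (hrq : r ≠ q) (hrk : (r : k) ≠ 0) (hqk : (q : k) ≠ 0)
    (a : H) (ha : a ^ q ^ (n + 1) = 1) (hfix : ∀ w, ρ a w = w → w = 0) :
    ∀ (N : ℕ) (R : Subgroup H), Nat.card R ≤ N → IsPGroup r R → a ∈ normalizer (R : Set H) →
      (∀ x ∈ R, a * x * a⁻¹ = x → x = 1) → ∀ x ∈ R, a ^ q ^ n * x * (a ^ q ^ n)⁻¹ = x := by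
  classical
  haveI := Fact.mk hr
  haveI := Fact.mk hq
  intro N
  induction N with
  | zero => exact fun R h => absurd h (Nat.not_le.2 Nat.card_pos)
  | succ N ih =>
  intro R hcard hR haR hfpR
  set t := a ^ q ^ n with ht
  have htR : t ∈ normalizer (R : Set H) := pow_mem haR _
  have htq : t ^ q = 1 := by rw [ht, ← pow_mul, ← pow_succ, ha]
  by_contra hne
  push Not at hne
  obtain ⟨x₁, hx₁, hx₁t⟩ := hne
  have hsub : ∀ S : Subgroup H, S ≤ R → a ∈ normalizer (S : Set H) → S ≠ R →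
      ∀ x ∈ S, t * x * t⁻¹ = x := by
    intro S hS haS hSne
    refine ih S ?_ (hR.to_le hS) haS fun x hx => hfpR x (hS hx)
    have : Nat.card S < Nat.card R :=
      lt_of_not_ge fun h => hSne (eq_of_le_of_card_ge hS h)
    omega
  have hRcard : ∀ {S : Subgroup H}, S ≤ R → (Nat.card S : k) ≠ 0 := by
    intro S hS
    obtain ⟨e, he⟩ := IsPGroup.iff_card.1 (hR.to_le hS)
    rw [he, Nat.cast_pow]
    exact pow_ne_zero _ hrk
  have hfix' : ¬ ∃ w, w ≠ 0 ∧ ρ a w = w := fun ⟨w, hw0, hw⟩ => hw0 (hfix w hw)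
  -- free orbits
  have hfreeN : ∀ {S : Subgroup H}, t ∉ S → ∀ i, i < q ^ (n + 1) → i ≠ 0 → a ^ i ∉ S := by
    intro S htS i hi hi0 hmem
    obtain ⟨j, hj, hjm⟩ := exists_pow_prime_mem hq ha hi0 hmem
    have hjn : j ≤ n := by
      by_contra h
      have := (Nat.pow_le_pow_right hq.pos (show n + 1 ≤ j by omega)).trans
        (Nat.le_of_dvd (Nat.pos_of_ne_zero hi0) hj)
      omega
    refine htS ?_
    rw [ht, ← Nat.add_sub_cancel' hjn, pow_add, pow_mul]
    exact pow_mem hjm _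
  -- `R = [R, t]`
  set T := zpowers t with hT
  have hTR : T ≤ normalizer (R : Set H) := zpowers_le.2 htR
  have hTcard : (Nat.card T).Coprime (Nat.card R) := by
    obtain ⟨e, he⟩ := IsPGroup.iff_card.1 hR
    rw [hT, Nat.card_zpowers, he]
    exact Nat.Coprime.coprime_dvd_left (orderOf_dvd_of_pow_eq_one htq)
      (((Nat.coprime_primes hq hr).2 hrq.symm).pow_right e)
  have hRsol : Group.IsSolvable R := CfsgLib.Coprime.isSolvable_of_isNilpotent hR.isNilpotent
  have hRT : ⁅R, T⁆ = R := by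
    have hle : ⁅R, T⁆ ≤ R := le_normalizer_iff_commutator_le_left.1 hTR
    by_contra h
    have hn : a ∈ normalizer ((⁅R, T⁆ : Subgroup H) : Set H) := by
      rw [mem_normalizer_iff_map_conj_eq, map_commutator, mem_normalizer_iff_map_conj_eq.1 haR]
      congr 1
      show (zpowers t).map (MulAut.conj a).toMonoidHom = T
      rw [MonoidHom.map_zpowers, show (MulAut.conj a).toMonoidHom t = t from ?_]
      show a * t * a⁻¹ = t
      rw [ht, ← pow_succ', pow_succ, mul_inv_cancel_right]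
    have hc := hsub _ hle hn h
    have h2 : ⁅⁅R, T⁆, T⁆ = ⊥ := by
      rw [commutator_eq_bot_iff_le_centralizer]
      intro y hy
      rw [hT, zpowers_eq_closure, centralizer_closure, mem_centralizer_singleton_iff]
      exact (mul_inv_eq_iff_eq_mul.1 (hc y hy)).symm
    rw [CfsgLib.Coprime.commutator_commutator_eq hTR hTcard (Or.inr hRsol),
      commutator_eq_bot_iff_le_centralizer] at h2
    have h3 := mem_centralizer_iff.1 (h2 hx₁) t (mem_zpowers t)
    exact hx₁t (by rw [h3, mul_inv_cancel_right])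
  -- the Frattini subgroup
  set Z : Subgroup R := frattini R with hZ
  set Y : Subgroup H := Z.map R.subtype with hY
  have hYR : Y ≤ R := map_subtype_le _
  have hR1 : R ≠ ⊥ := fun e => hx₁t (by
    rw [e, mem_bot] at hx₁
    rw [hx₁, mul_one, mul_inv_cancel])
  haveI : Nontrivial R := (nontrivial_iff_ne_bot R).2 hR1
  have hZtop : Z ≠ ⊤ := by
    intro e
    obtain ⟨M, hM, -⟩ := (eq_top_or_exists_le_coatom (⊥ : Subgroup R)).resolve_left bot_ne_top
    exact hM.1 (top_le_iff.1 (e.symm.le.trans (frattini_le_coatom hM)))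
  have hYne : Y ≠ R := fun e => hZtop (map_injective R.subtype_injective (by
    rw [← hY, e, ← MonoidHom.range_eq_map, range_subtype]))
  have hnY : normalizer (R : Set H) ≤ normalizer (Y : Set H) := by
    intro g hg
    refine mem_normalizer_fintype ?_
    rintro _ ⟨y, hy, rfl⟩
    exact ⟨R.normalizerMonoidHom ⟨g, hg⟩ y, characteristic_iff_map_le.1 inferInstance
      (R.normalizerMonoidHom ⟨g, hg⟩) (mem_map_of_mem _ hy), rfl⟩
  have haY : a ∈ normalizer (Y : Set H) := hnY haR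
  have hYt : ∀ y ∈ Y, t * y * t⁻¹ = y := hsub Y hYR haY hYne
  have hRY : ⁅R, Y⁆ = ⊥ := by
    conv_lhs => rw [← hRT]
    have hTY : ⁅Y, T⁆ = ⊥ := by
      rw [commutator_eq_bot_iff_le_centralizer]
      intro y hy
      rw [hT, zpowers_eq_closure, centralizer_closure, mem_centralizer_singleton_iff]
      exact (mul_inv_eq_iff_eq_mul.1 (hYt y hy)).symm
    refine Subgroup.commutator_commutator_eq_bot_of_rotate (H₁ := R) (H₂ := T) (H₃ := Y) ?_ ?_
    · rw [commutator_comm T Y, hTY, commutator_bot_left]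
    · rw [eq_bot_iff, ← hTY]
      refine commutator_mono ?_ le_rfl
      exact le_normalizer_iff_commutator_le_left.1 (le_normalizer.trans hnY)
  have hYc : ∀ x ∈ R, ∀ y ∈ Y, Commute x y := fun x hx y hy =>
    (mem_centralizer_iff.1 (commutator_eq_bot_iff_le_centralizer.1 hRY hx) y hy).symm
  -- the action on `R`
  set σR : MulAut R := R.normalizerMonoidHom ⟨a, haR⟩ with hσR
  have hσ : ∀ (i : ℕ) (x : R), (((σR ^ i) x : R) : H) = a ^ i * x * (a ^ i)⁻¹ := by
    intro i x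
    rw [hσR, ← map_pow]
    rfl
  set τ : MulAut R := σR ^ q ^ n with hτ
  have hτv : ∀ x : R, ((τ x : R) : H) = t * x * t⁻¹ := fun x => hσ (q ^ n) x
  have hτZ : ∀ z ∈ Z, τ z = z := fun z hz => Subtype.ext (by
    rw [hτv]; exact hYt _ (mem_map_of_mem _ hz))
  have hZc : ∀ (x : R), ∀ z ∈ Z, x * z = z * x := fun x z hz =>
    Subtype.ext (hYc x x.2 z (mem_map_of_mem _ hz)).eq
  have hZmap : ∀ (f : MulAut R), ∀ z ∈ Z, f z ∈ Z := fun f z hz =>
    characteristic_iff_map_le.1 inferInstance f (mem_map_of_mem _ hz)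
  letI : CommGroup (R ⧸ Z) := { (inferInstance : Group (R ⧸ Z)) with
    mul_comm := fun u v => by
      obtain ⟨x, rfl⟩ := QuotientGroup.mk_surjective u
      obtain ⟨y, rfl⟩ := QuotientGroup.mk_surjective v
      rw [← QuotientGroup.mk_mul, ← QuotientGroup.mk_mul, QuotientGroup.eq]
      have h1 := CfsgLib.Coprime.commutator_le_frattini hR
        (commutator_mem_commutator (mem_top (y⁻¹)) (mem_top (x⁻¹)))
      rwa [commutatorElement_def, inv_inv, inv_inv,
        show y⁻¹ * x⁻¹ * y * x = (x * y)⁻¹ * (y * x) by group] at h1 }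
  let ι : MulAut R →* MulAut (R ⧸ Z) :=
    { toFun := fun f => QuotientGroup.congr Z Z f (eq_of_le_of_card_ge
        (characteristic_iff_map_le.1 inferInstance f) (card_map_of_injective f.injective).ge)
      map_one' := MulEquiv.ext fun v => by
        induction v using QuotientGroup.induction_on with | _ x => rfl
      map_mul' := fun f g => MulEquiv.ext fun v => by
        induction v using QuotientGroup.induction_on with | _ x => rfl }
  have hι : ∀ (f : MulAut R) (x : R), ι f (x : R ⧸ Z) = ((f x : R) : R ⧸ Z) := fun f x => rfl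
  let ψ : R ⧸ Z →* R ⧸ Z :=
    MonoidHom.mk' (fun v => v⁻¹ * ι τ v) fun u v => by
      rw [map_mul, mul_inv, mul_mul_mul_comm]
  have hψ : ∀ x : R, ψ (x : R ⧸ Z) = ((x⁻¹ * τ x : R) : R ⧸ Z) := fun x => rfl
  have hψsurj : Function.Surjective ψ := by
    intro v
    obtain ⟨x, rfl⟩ := QuotientGroup.mk_surjective v
    have hrange : ∀ (i : ℕ) (u : R ⧸ Z), u⁻¹ * (ι τ ^ i) u ∈ ψ.range := by
      intro i u
      induction i with
      | zero => rw [pow_zero, MulAut.one_apply, inv_mul_cancel]; exact one_mem _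
      | succ i hi =>
        rw [show u⁻¹ * (ι τ ^ (i + 1)) u =
          (u⁻¹ * (ι τ ^ i) u) * (((ι τ ^ i) u)⁻¹ * ι τ ((ι τ ^ i) u)) by
            rw [pow_succ', MulAut.mul_apply]; group]
        exact mul_mem hi ⟨_, rfl⟩
    have h1 : ⁅R, T⁆ ≤ (ψ.range.comap (QuotientGroup.mk' Z)).map R.subtype := by
      rw [commutator_le]
      intro y hy z hz
      obtain ⟨i, hi⟩ := (Submonoid.mem_powers_iff _ _).1
        ((isOfFinOrder_of_finite t).mem_powers_iff_mem_zpowers.2 hz)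
      refine ⟨⟨y, hy⟩ * (τ ^ i) ⟨y, hy⟩⁻¹, ?_, ?_⟩
      · rw [SetLike.mem_coe, mem_comap, QuotientGroup.mk'_apply, QuotientGroup.mk_mul, ← hι, map_pow]
        have := hrange i ((⟨y, hy⟩⁻¹ : R) : R ⧸ Z)
        rwa [← QuotientGroup.mk_inv, inv_inv] at this
      · show y * (((τ ^ i) ⟨y, hy⟩⁻¹ : R) : H) = ⁅y, z⁆
        rw [hτ, ← pow_mul, hσ, pow_mul, ← ht, hi, commutatorElement_def]
        show y * (z * y⁻¹ * z⁻¹) = _
        group
    rw [hRT] at h1
    obtain ⟨x', hx', e⟩ := h1 x.2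
    exact (Subtype.ext e : x' = x) ▸ hx'
  have hψinj : Function.Injective ψ := Finite.injective_iff_surjective.2 hψsurj
  have hτfix : ∀ x : R, x⁻¹ * τ x ∈ Z → x ∈ Z := fun x hx => by
    have h1 : ψ (x : R ⧸ Z) = ψ 1 := by rw [hψ, map_one, QuotientGroup.eq_one_iff]; exact hx
    exact (QuotientGroup.eq_one_iff x).1 (hψinj h1)
  -- invariant subgroups are central or everything
  have hmin : ∀ U : Subgroup R, U ≠ ⊤ → (∀ x ∈ U, σR x ∈ U) → U ≤ Z := by
    intro U hU hUσ x hx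
    refine hτfix x ?_
    have hnU : a ∈ normalizer ((U.map R.subtype : Subgroup H) : Set H) := by
      refine mem_normalizer_fintype ?_
      rintro _ ⟨y, hy, rfl⟩
      exact ⟨σR y, hUσ y hy, rfl⟩
    have h1 := hsub _ (map_subtype_le U) hnU (fun e => hU (map_injective R.subtype_injective (by
      rw [e, ← MonoidHom.range_eq_map, range_subtype]))) _ (mem_map_of_mem _ hx)
    rw [show τ x = x from Subtype.ext (by rw [hτv]; exact h1), inv_mul_cancel]
    exact one_mem Z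
  by_cases habel : ∀ x ∈ R, ∀ y ∈ R, x * y = y * x
  · -- abelian image
    haveI := Fintype.ofFinite R
    have hk : (Fintype.card R : k) ≠ 0 := by
      rw [← Nat.card_eq_fintype_card]; exact hRcard le_rfl
    have hcom : ImgComm ρ R := fun x hx y hy => by rw [habel x hx y hy]
    have htx : t⁻¹ * x₁ * t ∈ R := (mem_normalizer_iff''.1 htR x₁).1 hx₁
    have h0 : ρ (t⁻¹ * x₁ * t) - ρ x₁ = 0 := by
      refine eq_zero_of_forall_eigen ρ hcom hk _ (fun y hy w => ?_) fun μ f hf => ?_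
      · rw [LinearMap.sub_apply, LinearMap.sub_apply, map_sub, ← rep_mul_apply, ← rep_mul_apply,
          ← rep_mul_apply, ← rep_mul_apply, habel y hy _ htx, habel y hy _ hx₁]
      by_cases hf0 : f = 0
      · rw [hf0, map_zero]
      have hts : t ∈ charStab R μ := by
        by_contra h
        exact hfix' (exists_fixed_of_free ρ hk (pow_pos hq.pos (n + 1)) haR hf hf0
          (by rw [ha, map_one]; rfl) (hfreeN h))
      have h2 := DFunLike.congr_fun ((mem_charStab htR).1 hts) ⟨x₁, hx₁⟩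
      rw [twist_apply] at h2
      rw [LinearMap.sub_apply, show ρ x₁ f = _ from hf ⟨x₁, hx₁⟩,
        show ρ (t⁻¹ * x₁ * t) f = _ from hf ⟨_, htx⟩, h2, sub_self]
    have h2 := hinj (sub_eq_zero.1 h0)
    apply hx₁t
    calc t * x₁ * t⁻¹ = t * (t⁻¹ * x₁ * t) * t⁻¹ := by rw [h2]
      _ = x₁ := by group
  push Not at habel
  obtain ⟨x₀, hx₀, y₀, hy₀, hne₀⟩ := habel
  have hcZ : ∀ x y : R, ⁅x, y⁆ ∈ Z := fun x y =>
    CfsgLib.Coprime.commutator_le_frattini hR (commutator_mem_commutator (mem_top x) (mem_top y))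
  haveI := Fintype.ofFinite Y
  have hYk : (Fintype.card Y : k) ≠ 0 := by
    rw [← Nat.card_eq_fintype_card]; exact hRcard hYR
  have hYi : ImgComm ρ Y := fun y hy z hz => by rw [(hYc y (hYR hy) z hz).eq]
  obtain ⟨χ, f, hf, hfne⟩ : ∃ (χ : Y →* kˣ) (f : W), IsEigen ρ Y χ f ∧
      (ρ ⁅x₀, y₀⁆ - 1) f ≠ 0 := by
    by_contra hc
    push Not at hc
    apply hne₀
    have hz : ⁅x₀, y₀⁆ ∈ Y := ⟨⁅(⟨x₀, hx₀⟩ : R), (⟨y₀, hy₀⟩ : R)⁆, hcZ _ _,
      by simp [commutatorElement_def]⟩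
    refine commutatorElement_eq_one_iff_mul_comm.1 (hinj ?_)
    rw [map_one]
    refine sub_eq_zero.1 (eq_zero_of_forall_eigen ρ hYi hYk _ (fun y hy w => ?_) hc)
    rw [LinearMap.sub_apply, LinearMap.sub_apply, map_sub, Module.End.one_apply, Module.End.one_apply,
      ← rep_mul_apply, ← rep_mul_apply, (hYc _ (hYR hz) y hy).eq]
  have hf0 : f ≠ 0 := fun e => hfne (by rw [e, map_zero])
  set S := charStab Y χ with hS
  have hRS : R ≤ S := fun x hx => commute_mem_charStab χ fun y => hYc x hx y y.2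
  have htS : t ∈ S := commute_mem_charStab χ fun y => mul_inv_eq_iff_eq_mul.1 (hYt y y.2)
  have hex : ∃ j, a ^ q ^ j ∈ S := ⟨n, htS⟩
  set j₀ := Nat.find hex with hj₀
  have hj₀S : a ^ q ^ j₀ ∈ S := Nat.find_spec hex
  obtain ⟨m, hm⟩ : ∃ m, n = j₀ + m := ⟨n - j₀, by have := Nat.find_min' hex htS; omega⟩
  have hN0 : 0 < q ^ j₀ := pow_pos hq.pos _
  have hfreej : ∀ i, i < q ^ j₀ → i ≠ 0 → a ^ i ∉ S := by
    intro i hi hi0 hmem
    obtain ⟨j, hj, hjm⟩ := exists_pow_prime_mem hq ha hi0 hmem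
    have h1 : j₀ ≤ j := Nat.find_min' hex hjm
    have h2 := (Nat.pow_le_pow_right hq.pos h1).trans (Nat.le_of_dvd (Nat.pos_of_ne_zero hi0) hj)
    omega
  set b := a ^ q ^ j₀ with hb
  have hbm : b ^ q ^ m = t := by rw [hb, ← pow_mul, ← pow_add, ← hm]
  -- the representation on the eigenspace
  set U := eigSpace ρ Y χ with hU
  let σ := subRep ρ U S (eigSpace_invariant ρ)
  have hσv : ∀ (g : S) (v : U), ((σ g v : U) : W) = ρ (g : H) (v : W) := fun _ _ => rfl
  haveI : Nontrivial U := Submodule.nontrivial_iff_ne_bot.2 fun e => hf0 (by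
    have : f ∈ U := hf
    rwa [e, Submodule.mem_bot] at this)
  set bs : S := ⟨b, hj₀S⟩ with hbs
  have hbfix : ∀ v : U, σ bs v = v → v = 0 := by
    intro v hv
    by_contra hv0
    exact hfix' (exists_fixed_of_free ρ hYk hN0 haY v.2 (fun e => hv0 (Subtype.ext e))
      (congrArg Subtype.val hv) hfreej)
  let ρR : R →* Module.End k U := σ.comp (inclusion hRS)
  have hρR : ∀ (x : R) (v : U), ((ρR x v : U) : W) = ρ (x : H) (v : W) := fun _ _ => rfl
  let χ' : Z →* kˣ := χ.comp (R.subtype.subgroupMap Z)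
  have hχ' : ∀ z : Z, ρR (z : R) = (χ' z : k) • 1 := fun z => LinearMap.ext fun v => Subtype.ext (by
    rw [hρR]; exact v.2 ⟨_, mem_map_of_mem R.subtype z.2⟩)
  have hxy : ∀ x y : R, ρR (x * y) = (χ' ⟨⁅x, y⁆, hcZ x y⟩ : k) • ρR (y * x) := by
    intro x y
    rw [show x * y = ⁅x, y⁆ * (y * x) by rw [commutatorElement_def]; group, map_mul ρR ⁅x, y⁆,
      hχ' ⟨_, hcZ x y⟩, smul_mul_assoc, one_mul]
  -- the radical
  let Rad : Subgroup R :=
    { carrier := {x | ∀ y, ρR (x * y) = ρR (y * x)}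
      one_mem' := fun y => by rw [one_mul, mul_one]
      mul_mem' := fun {x x'} hx hx' y => by
        rw [mul_assoc, map_mul, hx' y, ← map_mul, ← mul_assoc, map_mul, hx y, ← map_mul, mul_assoc]
      inv_mem' := fun {x} hx y => by
        calc ρR (x⁻¹ * y) = ρR x⁻¹ * (ρR (y * x) * ρR x⁻¹) := by
              rw [← map_mul, mul_inv_cancel_right, ← map_mul]
          _ = ρR x⁻¹ * (ρR (x * y) * ρR x⁻¹) := by rw [hx y]
          _ = ρR (y * x⁻¹) := by
              rw [← map_mul, ← map_mul]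
              congr 1
              group }
  have hradc : ∀ x, x ∈ Rad ↔ ∀ y, χ' ⟨⁅x, y⁆, hcZ x y⟩ = 1 := by
    intro x
    refine forall_congr' fun y => ⟨fun h => ?_, fun h => ?_⟩
    · rw [hxy] at h
      have := smul_rep_inj ρR (c := (χ' ⟨⁅x, y⁆, hcZ x y⟩ : k)) (d := 1) (x := y * x) (by rw [one_smul]; exact h)
      exact Units.ext this
    · rw [hxy, h, Units.val_one, one_smul]
  have hZRad : Z ≤ Rad := fun z hz y => by rw [hZc y z hz]
  have hRad0 : (⟨x₀, hx₀⟩ : R) ∉ Rad := by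
    intro h
    apply hfne
    have h2 := (hradc _).1 h ⟨y₀, hy₀⟩
    have hz : ⁅x₀, y₀⁆ ∈ Y := ⟨⁅(⟨x₀, hx₀⟩ : R), (⟨y₀, hy₀⟩ : R)⁆, hcZ _ _,
      by simp [commutatorElement_def]⟩
    rw [LinearMap.sub_apply, Module.End.one_apply, sub_eq_zero, show ρ ⁅x₀, y₀⁆ f = _ from hf ⟨_, hz⟩,
      show χ ⟨_, hz⟩ = 1 from ?_, Units.val_one, one_smul]
    rw [← h2]
    exact congrArg χ (Subtype.ext (map_commutatorElement R.subtype ⟨x₀, hx₀⟩ ⟨y₀, hy₀⟩).symm)
  -- `b` normalizes the radical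
  set σE : MulAut R := σR ^ q ^ j₀ with hσE
  have hσEv : ∀ x : R, ((σE x : R) : H) = b * x * b⁻¹ := fun x => hσ (q ^ j₀) x
  have hu : ∀ x : R, σ bs * ρR x = ρR (σE x) * σ bs := fun x => LinearMap.ext fun v => Subtype.ext (by
    rw [Module.End.mul_apply, Module.End.mul_apply, hσv, hρR, hρR, hσv, hσEv, ← rep_mul_apply,
      ← rep_mul_apply, inv_mul_cancel_right])
  have hcan : ∀ {X X' : Module.End k U}, X * σ bs = X' * σ bs → X = X' := fun {X X'} e => by
    have := congrArg (· * σ bs⁻¹) e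
    simpa [mul_assoc, ← map_mul] using this
  have hRadE : ∀ x ∈ Rad, σE x ∈ Rad := by
    intro x hx y
    obtain ⟨y, rfl⟩ := σE.surjective y
    refine hcan ?_
    rw [← map_mul, ← map_mul, ← hu, ← hu, hx y]
  have hRadτ : ∀ x ∈ Rad, τ x ∈ Rad := by
    intro x hx
    have hpow : ∀ i : ℕ, (σE ^ i) x ∈ Rad := fun i => by
      induction i with
      | zero => exact hx
      | succ i hi => rw [pow_succ']; exact hRadE _ hi
    have := hpow (q ^ m)
    rwa [hσE, ← pow_mul, ← pow_add, ← hm] at this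
  -- every element of the radical is a commutator with `t` modulo `Z`
  have hRadsurj : ∀ x ∈ Rad, ∃ y ∈ Rad, (y⁻¹ * τ y)⁻¹ * x ∈ Z := by
    intro x hx
    let g : (Rad.map (QuotientGroup.mk' Z)) → (Rad.map (QuotientGroup.mk' Z)) := fun v => ⟨ψ v.1, by
      obtain ⟨y, hy, hyv⟩ := v.2
      exact ⟨y⁻¹ * τ y, mul_mem (inv_mem hy) (hRadτ y hy), by rw [← hyv]; rfl⟩⟩
    have hg : Function.Injective g := fun u v e => Subtype.ext (hψinj (congrArg Subtype.val e))
    obtain ⟨⟨_, y, hy, rfl⟩, e⟩ := Finite.injective_iff_surjective.1 hg ⟨_, mem_map_of_mem _ hx⟩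
    exact ⟨y, hy, QuotientGroup.eq.1 (congrArg Subtype.val e)⟩
  -- the radical acts by scalars
  have hRadscal : ∀ x ∈ Rad, x ∈ scalarSub ρR := by
    intro x hx
    obtain ⟨y, hy, hyz⟩ := hRadsurj x hx
    obtain ⟨z, hzdef⟩ : ∃ z : Z, z = ⟨_, hyz⟩ := ⟨_, rfl⟩
    refine ⟨χ' z, sub_eq_zero.1 ?_⟩
    let Rd : Subgroup S := Rad.map (inclusion hRS)
    haveI := Fintype.ofFinite Rd
    have hRdk : (Fintype.card Rd : k) ≠ 0 := by
      rw [← Nat.card_eq_fintype_card, card_map_of_injective (inclusion_injective hRS),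
        ← card_map_of_injective R.subtype_injective]
      exact hRcard (map_subtype_le _)
    have hRdi : ImgComm σ Rd := by
      rintro _ ⟨u, hu, rfl⟩ _ ⟨v, hv, rfl⟩
      rw [← map_mul, ← map_mul]
      exact hu v
    have hbRd : bs ∈ normalizer (Rd : Set S) := by
      refine mem_normalizer_fintype ?_
      rintro _ ⟨u, hu, rfl⟩
      exact ⟨σE u, hRadE u hu, Subtype.ext (hσEv u)⟩
    refine eq_zero_of_forall_eigen σ hRdi hRdk _ ?_ ?_
    · rintro _ ⟨u, hu, rfl⟩ v
      show (ρR x - (χ' z : k) • 1 : Module.End k U) (ρR u v) = ρR u ((ρR x - (χ' z : k) • 1 : Module.End k U) v)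
      rw [LinearMap.sub_apply, LinearMap.sub_apply, map_sub, LinearMap.smul_apply, LinearMap.smul_apply,
        Module.End.one_apply, Module.End.one_apply, map_smul, ← Module.End.mul_apply,
        ← Module.End.mul_apply, ← map_mul, ← map_mul, hx u]
    intro μ g hg
    by_cases hg0 : g = 0
    · rw [hg0, map_zero]
    have htμ : bs ^ q ^ m ∈ charStab Rd μ := by
      by_contra hnot
      have hbsq : bs ^ q ^ (m + 1) = 1 := Subtype.ext (by
        rw [SubgroupClass.coe_pow, OneMemClass.coe_one, pow_succ, pow_mul]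
        show (b ^ q ^ m) ^ q = 1
        rw [hbm, htq])
      obtain ⟨w, hw0, hw⟩ := exists_fixed_of_free σ hRdk (pow_pos hq.pos (m + 1)) hbRd hg hg0
        (by rw [hbsq, map_one]; rfl) (fun i hi hi0 hmem => by
          obtain ⟨j, hj, hjm⟩ := exists_pow_prime_mem hq hbsq hi0 hmem
          have hjm' : j ≤ m := by
            by_contra h
            have := (Nat.pow_le_pow_right hq.pos (show m + 1 ≤ j by omega)).trans
              (Nat.le_of_dvd (Nat.pos_of_ne_zero hi0) hj)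
            omega
          refine hnot ?_
          rw [← Nat.add_sub_cancel' hjm', pow_add, pow_mul]
          exact pow_mem hjm _)
      exact hw0 (hbfix w hw)
    obtain ⟨htn, htw⟩ := htμ
    have hyR : inclusion hRS y ∈ Rd := mem_map_of_mem _ hy
    have hτyR : inclusion hRS (τ y) ∈ Rd := mem_map_of_mem _ (hRadτ y hy)
    have hμ : μ ⟨_, hτyR⟩ = μ ⟨_, hyR⟩ := by
      have e1 := DFunLike.congr_fun htw ⟨_, hτyR⟩
      rw [twist_apply] at e1
      rw [← e1]
      refine congrArg μ (Subtype.ext (Subtype.ext ?_))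
      show ((bs ^ q ^ m : S) : H)⁻¹ * ((τ y : R) : H) * ((bs ^ q ^ m : S) : H) = (y : H)
      rw [SubgroupClass.coe_pow, show ((bs : S) : H) = b from rfl, hbm, hτv]
      group
    have e1 : σ (inclusion hRS (y⁻¹ * τ y)) g = g := by
      rw [show inclusion hRS (y⁻¹ * τ y) = ((⟨_, hyR⟩⁻¹ * ⟨_, hτyR⟩ : Rd) : S) from by rw [map_mul, map_inv]; rfl,
        hg, map_mul, map_inv, hμ, inv_mul_cancel, Units.val_one, one_smul]
    have e2 : ρR x g = (χ' z : k) • g := by
      rw [show x = (y⁻¹ * τ y) * (z : R) by rw [hzdef]; group, map_mul, hχ', Module.End.mul_apply,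
        LinearMap.smul_apply, Module.End.one_apply, map_smul]
      exact congrArg _ e1
    rw [LinearMap.sub_apply, LinearMap.smul_apply, Module.End.one_apply, e2, sub_self]
  have hsc : scalarSub ρR = Rad := by
    refine le_antisymm (fun x hx y => ?_) hRadscal
    obtain ⟨c, hc⟩ := hx
    rw [map_mul, map_mul, hc, smul_mul_assoc, one_mul, mul_smul_comm, mul_one]
  have hE : ClassTwo ρR := fun x y => by
    refine ⟨χ' ⟨⁅x, y⁆, hcZ x y⟩, ?_⟩
    rw [← hχ' ⟨⁅x, y⁆, hcZ x y⟩]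
    rfl
  have hnd : Nondeg ρR := fun x hx => hRadscal x hx
  have hmk : (Nat.card (ScalarQuot ρR) : k) ≠ 0 := by
    obtain ⟨e, he⟩ := IsPGroup.iff_card.1 hR
    obtain ⟨i, -, hi⟩ := (Nat.dvd_prime_pow hr).1 (he ▸ (scalarSub ρR).card_quotient_dvd_card)
    rw [show Nat.card (ScalarQuot ρR) = r ^ i from hi, Nat.cast_pow]
    exact pow_ne_zero _ hrk
  have hiter : ∀ (i : ℕ) (x : R), σE^[i] x = (σR ^ (q ^ j₀ * i)) x := by
    intro i x
    induction i with
    | zero => rfl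
    | succ i hi => rw [Function.iterate_succ_apply', hi, Nat.mul_succ, add_comm, pow_add]; rfl
  obtain ⟨d, hd, hqd⟩ := hh_core ρR hE hnd hmk hq (m := m) rfl
    (by rw [Nat.cast_pow]; exact pow_ne_zero _ hqk) σE
    (fun x => by
      rw [hiter, ← pow_add, show j₀ + (m + 1) = n + 1 by omega]
      refine Subtype.ext ?_
      rw [hσ, ha, one_mul, inv_one, mul_one])
    (σ bs) (by
      rw [← map_pow, show bs ^ q ^ (m + 1) = 1 from Subtype.ext (by
        rw [SubgroupClass.coe_pow, OneMemClass.coe_one, pow_succ, pow_mul]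
        show (b ^ q ^ m) ^ q = 1
        rw [hbm, htq]), map_one])
    hu hbfix
    (fun x hx => by
      rw [hiter, ← pow_add, ← hm, ← hτ, hsc] at hx
      rw [hsc]
      obtain ⟨y, hy, hyz⟩ := hRadsurj _ hx
      have h1 : ψ (x : R ⧸ Z) = ψ (y : R ⧸ Z) := by
        rw [hψ, hψ]; exact (QuotientGroup.eq.2 hyz).symm
      have h2 := QuotientGroup.eq.1 (hψinj h1)
      have h3 := mul_mem hy (inv_mem (hZRad h2))
      rwa [mul_inv_rev, inv_inv, mul_inv_cancel_left] at h3)
    (by rw [hsc]; exact fun e => hRad0 (e ▸ mem_top _))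
  -- arithmetic: `r = 2`
  have hRadidx : Rad.index = d * d := by
    rw [index_eq_card, ← hd, ← hsc]
  obtain ⟨e, he⟩ := IsPGroup.iff_card.1 hR
  obtain ⟨i, -, hi⟩ := (Nat.dvd_prime_pow hr).1 (show d ∣ r ^ e from
    he ▸ ((dvd_mul_right d d).trans (hRadidx ▸ Rad.index_dvd_card)))
  have hi0 : i ≠ 0 := fun h0 => hRad0 (by
    rw [hi, h0, pow_zero, mul_one] at hRadidx
    rw [index_eq_one.1 hRadidx]
    exact mem_top _)
  have hr2 : r = 2 := by
    by_contra hr2
    have h1 : Odd d := hi ▸ (hr.odd_of_ne_two hr2).pow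
    have h2 : Odd (q ^ (m + 1)) := (hq.odd_of_ne_two hq2).pow
    rw [hqd] at h2
    exact (Nat.not_even_iff_odd.2 h2) h1.add_one
  subst hr2
  -- the dimension of the Frattini quotient
  obtain ⟨D, hDV⟩ := IsPGroup.iff_card.1 (hR.to_quotient Z)
  haveI : Nontrivial (R ⧸ Z) := QuotientGroup.nontrivial_iff.2 hZtop
  obtain ⟨v₀, hv₀⟩ := exists_ne (1 : R ⧸ Z)
  have hpow := pow_card_sub_one_of_irreducible (ι σR) (fun U hU => by
    by_cases hUt : U = ⊤
    · exact Or.inr hUt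
    left
    have hne : U.comap (QuotientGroup.mk' Z) ≠ ⊤ := fun e => hUt (by
      rw [← map_comap_eq_self_of_surjective (QuotientGroup.mk'_surjective Z) U, e,
        map_top_of_surjective _ (QuotientGroup.mk'_surjective Z)])
    have hle := hmin _ hne (fun x hx => by rw [mem_comap] at hx ⊢; exact hU _ hx)
    rw [← map_comap_eq_self_of_surjective (QuotientGroup.mk'_surjective Z) U, eq_bot_iff]
    exact (map_mono hle).trans (QuotientGroup.map_mk'_self Z).le) hv₀
  have hord : orderOf (ι σR) = q ^ (n + 1) := by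
    refine orderOf_eq_prime_pow (fun h1 => ?_) ?_
    · obtain ⟨u, hu⟩ := hψsurj v₀
      apply hv₀
      rw [← map_pow, ← hτ] at h1
      rw [← hu]
      show u⁻¹ * ι τ u = 1
      rw [h1, MulAut.one_apply, inv_mul_cancel]
    · rw [← map_pow, show σR ^ q ^ (n + 1) = 1 from MulEquiv.ext fun x => Subtype.ext (by
        rw [hσ, ha, one_mul, inv_one, mul_one]; rfl), map_one]
  have hdvd : q ^ (m + 1 + j₀) ∣ 2 ^ D - 1 := by
    rw [show m + 1 + j₀ = n + 1 by omega, ← hord, ← hDV]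
    exact orderOf_dvd_of_pow_eq_one hpow
  have hD := two_mul_pow_dvd hq hq2 (hi ▸ hqd) hdvd
  have hD0 : D ≠ 0 := fun h0 => by
    rw [h0, pow_zero] at hDV
    exact (Finite.one_lt_card (α := R ⧸ Z)).ne' hDV
  have hDle := Nat.le_of_dvd (Nat.pos_of_ne_zero hD0) hD
  -- the intersection of the other radicals
  let Rl : ℕ → Subgroup R := fun l => Rad.comap ((σR ^ l)⁻¹ : MulAut R).toMonoidHom
  have hRl : ∀ (l : ℕ) (x : R), x ∈ Rl l ↔ (σR ^ l)⁻¹ x ∈ Rad := fun _ _ => Iff.rfl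
  set I := ((Finset.range (q ^ j₀)).erase 0).inf Rl with hI
  have hIidx : I.index ≤ (d * d) ^ (q ^ j₀ - 1) := by
    have key : ∀ s : Finset ℕ, (s.inf Rl).index ≤ (d * d) ^ s.card := by
      intro s
      induction s using Finset.induction_on with
      | empty => simp
      | @insert l s hl ihs =>
        rw [Finset.inf_insert, Finset.card_insert_of_notMem hl, pow_succ']
        refine Subgroup.index_inf_le.trans (Nat.mul_le_mul ?_ ihs)
        rw [← hRadidx]
        exact le_of_eq (Subgroup.index_comap_of_surjective Rad ((σR ^ l)⁻¹ : MulAut R).surjective)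
    have := key ((Finset.range (q ^ j₀)).erase 0)
    rwa [Finset.card_erase_of_mem (Finset.mem_range.2 hN0), Finset.card_range] at this
  obtain ⟨y, hyI, hyZ⟩ : ∃ y ∈ I, y ∉ Z := by
    refine SetLike.not_le_iff_exists.1 fun hle => ?_
    have h1 := (Nat.le_of_dvd (Nat.pos_of_ne_zero index_ne_zero_of_finite)
      (index_dvd_of_le hle)).trans hIidx
    rw [index_eq_card, hDV, hi, ← pow_add, ← pow_mul, Nat.pow_le_pow_iff_right (by norm_num)] at h1
    rw [Nat.mul_sub, mul_one] at h1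
    have h2 : i * q ^ j₀ + i * q ^ j₀ = (i + i) * q ^ j₀ := by ring
    have h3 : 2 * i * q ^ j₀ = (i + i) * q ^ j₀ := by ring
    have h4 : i + i ≤ (i + i) * q ^ j₀ := Nat.le_mul_of_pos_right _ hN0
    omega
  have hyRl : ∀ l, l < q ^ j₀ → l ≠ 0 → y ∈ Rl l := fun l hl hl0 =>
    (Finset.inf_le (f := Rl) (Finset.mem_erase.2 ⟨hl0, Finset.mem_range.2 hl⟩) :
      ((Finset.range (q ^ j₀)).erase 0).inf Rl ≤ Rl l) hyI
  have hy0 : y ∉ Rad := by
    intro hyRad
    refine hyZ (hmin ((Finset.range (q ^ j₀)).inf Rl) ?_ ?_ ?_)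
    · intro e
      refine hRad0 ?_
      have := (Finset.inf_le (f := Rl) (Finset.mem_range.2 hN0) : (Finset.range (q ^ j₀)).inf Rl ≤ Rl 0)
        (e.ge (mem_top (⟨x₀, hx₀⟩ : R)))
      simpa [hRl] using this
    · intro x hx
      have hxl : ∀ l, l < q ^ j₀ → x ∈ Rl l := fun l hl =>
        (Finset.inf_le (f := Rl) (Finset.mem_range.2 hl) : (Finset.range (q ^ j₀)).inf Rl ≤ Rl l) hx
      have : zpowers (σR x) ≤ (Finset.range (q ^ j₀)).inf Rl := Finset.le_inf fun l hl => by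
        rw [zpowers_le, hRl]
        have hl' := Finset.mem_range.1 hl
        rcases Nat.eq_zero_or_pos l with rfl | hl0
        · have h1 := hRadE _ ((hRl _ _).1 (hxl (q ^ j₀ - 1) (by omega)))
          have e : σE = σR * σR ^ (q ^ j₀ - 1) := by
            rw [hσE, ← pow_succ', Nat.sub_add_cancel (show 1 ≤ q ^ j₀ by omega)]
          rw [e, MulAut.mul_apply, MulAut.apply_inv_self] at h1
          rw [pow_zero, inv_one]
          exact h1
        · have h1 := (hRl _ _).1 (hxl (l - 1) (by omega))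
          have e : σR ^ l = σR * σR ^ (l - 1) := by rw [← pow_succ', Nat.sub_add_cancel hl0]
          rwa [e, mul_inv_rev, MulAut.mul_apply, MulAut.inv_apply_self]
      exact this (mem_zpowers _)
    · have : zpowers y ≤ (Finset.range (q ^ j₀)).inf Rl := Finset.le_inf fun l hl => by
        rw [zpowers_le]
        rcases Nat.eq_zero_or_pos l with rfl | hl0
        · rw [hRl, pow_zero, inv_one]; exact hyRad
        · exact hyRl l (Finset.mem_range.1 hl) hl0.ne'
      exact this (mem_zpowers _)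
  obtain ⟨y', hy'⟩ : ∃ y', χ' ⟨⁅y, y'⁆, hcZ y y'⟩ ≠ 1 := by
    by_contra hc
    push Not at hc
    exact hy0 ((hradc y).2 hc)
  -- an invariant character of `Z`
  let Λt : ℕ → Z → kˣ := fun l z => χ' ⟨(σR ^ l)⁻¹ (z : R), hZmap _ _ z.2⟩
  let Λ : Z →* kˣ := MonoidHom.mk' (fun z => ∏ l ∈ Finset.range (q ^ j₀), Λt l z) fun z z' => by
    rw [← Finset.prod_mul_distrib]
    refine Finset.prod_congr rfl fun l _ => ?_
    rw [← map_mul χ']
    exact congrArg χ' (Subtype.ext (map_mul _ _ _))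
  have hΛσ : ∀ z : Z, Λ ⟨σR z, hZmap _ _ z.2⟩ = Λ z := by
    intro z
    show ∏ l ∈ Finset.range (q ^ j₀), Λt l ⟨σR z, hZmap _ _ z.2⟩ = ∏ l ∈ Finset.range (q ^ j₀), Λt l z
    have e1 : ∀ l, Λt (l + 1) ⟨σR z, hZmap _ _ z.2⟩ = Λt l z := fun l => congrArg χ' (Subtype.ext (by
      show (σR ^ (l + 1))⁻¹ (σR (z : R)) = (σR ^ l)⁻¹ (z : R)
      rw [pow_succ', mul_inv_rev, MulAut.mul_apply, MulAut.inv_apply_self]))
    have e2 : Λt (q ^ j₀) ⟨σR z, hZmap _ _ z.2⟩ = Λt 0 ⟨σR z, hZmap _ _ z.2⟩ := by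
      obtain ⟨hbn, hbt⟩ := hj₀S
      have h1 := DFunLike.congr_fun hbt ⟨_, mem_map_of_mem R.subtype (hZmap σR _ z.2)⟩
      rw [twist_apply] at h1
      refine Eq.trans ?_ (h1.trans (congrArg χ (Subtype.ext ?_)))
      · refine congrArg χ (Subtype.ext ?_)
        show (((σR ^ q ^ j₀)⁻¹ (σR (z : R)) : R) : H) = b⁻¹ * ((σR (z : R) : R) : H) * b
        obtain ⟨w, hw⟩ : ∃ w, w = σR (z : R) := ⟨_, rfl⟩
        rw [← hw]
        have h2 : b * (((σR ^ q ^ j₀)⁻¹ w : R) : H) * b⁻¹ = (w : H) := by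
          rw [← hσEv, hσE, MulAut.apply_inv_self]
        calc (((σR ^ q ^ j₀)⁻¹ w : R) : H) = b⁻¹ * (b * (((σR ^ q ^ j₀)⁻¹ w : R) : H) * b⁻¹) * b := by group
          _ = b⁻¹ * (w : H) * b := by rw [h2]
      · show ((σR (z : R) : R) : H) = (((σR ^ 0)⁻¹ (σR (z : R)) : R) : H)
        rw [pow_zero, inv_one, MulAut.one_apply]
    have e3 := Finset.prod_range_succ' (fun l => Λt l ⟨σR z, hZmap _ _ z.2⟩) (q ^ j₀)
    rw [Finset.prod_range_succ, e2] at e3
    rw [Finset.prod_congr rfl fun l _ => e1 l] at e3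
    exact mul_right_cancel e3
  have hΛ1 : ∀ z : Z, Λ z = 1 := by
    let g : Z → Z := fun w => ⟨(w : R)⁻¹ * σR w, mul_mem (inv_mem w.2) (hZmap _ _ w.2)⟩
    have hg : Function.Injective g := by
      intro w w' e
      have e' : (w : R)⁻¹ * σR w = (w' : R)⁻¹ * σR w' := congrArg Subtype.val e
      have h1 : σR ((w' : R) * (w : R)⁻¹) = (w' : R) * (w : R)⁻¹ := by
        have e2 : σR (w' : R) = (w' : R) * ((w : R)⁻¹ * σR w) := by rw [e']; group
        rw [map_mul, map_inv, e2]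
        group
      have h2 := hfpR _ ((w' : R) * (w : R)⁻¹).2 (by
        have := hσ 1 ((w' : R) * (w : R)⁻¹)
        rw [pow_one, pow_one, h1] at this
        exact this.symm)
      have h3 : (w' : R) * (w : R)⁻¹ = 1 := Subtype.ext h2
      exact Subtype.ext (mul_inv_eq_one.1 h3).symm
    intro z
    obtain ⟨w, rfl⟩ := Finite.injective_iff_surjective.1 hg z
    have e4 : g w = w⁻¹ * ⟨σR w, hZmap _ _ w.2⟩ := rfl
    rw [e4, map_mul, map_inv, hΛσ, inv_mul_cancel]
  apply hy'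
  have h5 := hΛ1 ⟨⁅y, y'⁆, hcZ y y'⟩
  change ∏ l ∈ Finset.range (q ^ j₀), Λt l ⟨⁅y, y'⁆, hcZ y y'⟩ = 1 at h5
  rw [Finset.prod_eq_single 0 (fun l hl hl0 => ?_) (fun h => absurd (Finset.mem_range.2 hN0) h)] at h5
  · rw [← h5]
    exact congrArg χ' (Subtype.ext (by
      show ⁅y, y'⁆ = (σR ^ 0)⁻¹ ⁅y, y'⁆
      rw [pow_zero, inv_one, MulAut.one_apply]))
  · have h6 := (hradc _).1 ((hRl _ _).1 (hyRl l (Finset.mem_range.1 hl) hl0)) ((σR ^ l)⁻¹ y')
    rw [← h6]
    exact congrArg χ' (Subtype.ext (map_commutatorElement ((σR ^ l)⁻¹ : MulAut R) y y'))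

/-- **The socle of a fixed-point-free operator centralizes the image.** -/
theorem centralizes (ρ : H →* Module.End k W) {r q n : ℕ} (hr : r.Prime) (hq : q.Prime) (hq2 : q ≠ 2)
    (hrq : r ≠ q) (hrk : (r : k) ≠ 0) (hqk : (q : k) ≠ 0) (a : H) (ha : a ^ q ^ (n + 1) = 1)
    (R : Subgroup H) (hR : IsPGroup r R) (haR : a ∈ normalizer (R : Set H))
    (hfpR : ∀ x ∈ R, a * x * a⁻¹ = x → x = 1) (hfix : ∀ w, ρ a w = w → w = 0) :
    ∀ x ∈ R, ρ (a ^ q ^ n * x * (a ^ q ^ n)⁻¹) = ρ x := by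
  classical
  set π := QuotientGroup.mk' ρ.ker
  let ρ' : H ⧸ ρ.ker →* Module.End k W := QuotientGroup.lift ρ.ker ρ le_rfl
  have hρ' : Function.Injective ρ' := by
    intro x y e
    obtain ⟨g, rfl⟩ := QuotientGroup.mk_surjective x
    obtain ⟨g', rfl⟩ := QuotientGroup.mk_surjective y
    have e' : ρ g = ρ g' := e
    rw [QuotientGroup.eq, MonoidHom.mem_ker, map_mul, ← e', ← map_mul, inv_mul_cancel, map_one]
  have key := centralizes_faithful ρ' hρ' hr hq hq2 hrq hrk hqk (π a)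
    (by rw [← map_pow, ha, map_one]) hfix _ (R.map π) le_rfl (hR.map π)
    (by
      refine mem_normalizer_fintype ?_
      rintro _ ⟨x, hx, rfl⟩
      exact ⟨a * x * a⁻¹, (mem_normalizer_iff.1 haR x).1 hx, by rw [map_mul, map_mul, map_inv]⟩)
    (by
      rintro _ ⟨x, hx, rfl⟩ e
      rw [← map_inv, ← map_mul, ← map_mul] at e
      have h1 : x⁻¹ * (a * x * a⁻¹) ∈ R ⊓ ρ.ker :=
        Subgroup.mem_inf.2 ⟨mul_mem (inv_mem hx) ((mem_normalizer_iff.1 haR x).1 hx),
          QuotientGroup.eq.1 e.symm⟩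
      let g : ↥(R ⊓ ρ.ker) → ↥(R ⊓ ρ.ker) := fun z => ⟨(z : H)⁻¹ * (a * z * a⁻¹), Subgroup.mem_inf.2
        ⟨mul_mem (inv_mem (Subgroup.mem_inf.1 z.2).1) ((mem_normalizer_iff.1 haR _).1 (Subgroup.mem_inf.1 z.2).1),
          mul_mem (inv_mem (Subgroup.mem_inf.1 z.2).2)
            ((MonoidHom.normal_ker ρ).conj_mem _ (Subgroup.mem_inf.1 z.2).2 a)⟩⟩
      have hinj : ∀ z z' : H, z ∈ R → z' ∈ R → z⁻¹ * (a * z * a⁻¹) = z'⁻¹ * (a * z' * a⁻¹) → z = z' := by
        intro z z' hz hz' e'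
        have h2 := hfpR (z' * z⁻¹) (mul_mem hz' (inv_mem hz)) (by
          calc a * (z' * z⁻¹) * a⁻¹ = z' * (z'⁻¹ * (a * z' * a⁻¹)) * (z⁻¹ * (a * z * a⁻¹))⁻¹ * z⁻¹ := by group
            _ = z' * z⁻¹ := by rw [← e']; group)
        exact (mul_inv_eq_one.1 h2).symm
      have hg : Function.Injective g := fun z z' e' => Subtype.ext (hinj _ _ (Subgroup.mem_inf.1 z.2).1
        (Subgroup.mem_inf.1 z'.2).1 (congrArg Subtype.val e'))
      obtain ⟨z, hz⟩ := Finite.injective_iff_surjective.1 hg ⟨_, h1⟩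
      rw [hinj x z hx (Subgroup.mem_inf.1 z.2).1 (congrArg Subtype.val hz).symm]
      exact (QuotientGroup.eq_one_iff _).2 (Subgroup.mem_inf.1 z.2).2)
  intro x hx
  have h := congrArg ρ' (key (π x) (mem_map_of_mem π hx))
  rw [← map_pow, ← map_inv, ← map_mul, ← map_mul] at h
  exact h

end CfsgLib.PGroup.ShultGross
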