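import Cfsg.Agent.Lib.PGroup.ShultGross.Centralize
import Cfsg.Agent.Lib.PGroup.HallHighmanFrob
import Cfsg.Agent.Lib.PGroup.FpfSections
import Cfsg.Agent.Lib.Coprime.Component
import Cfsg.Agent.Lib.Coprime.Fitting

/-!
# The theorem of Shult and Gross

A finite solvable group with a fixed-point-free automorphism of order dividing `p ^ n`, `p` odd,
has Fitting height at most `n`.
-/

set_option autoImplicit false
set_option linter.style.haveILetI false
set_option linter.unusedSectionVars false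

namespace CfsgLib.PGroup.ShultGross

open CfsgLib.PGroup
open Subgroup
open scoped commutatorElement

universe u

/-- An operator on an elementary abelian group. -/
theorem aut_centralizes {V : Type u} [CommGroup V] [Finite V] {l r q n : ℕ} [hl : Fact l.Prime]
    (hV : ∀ v : V, v ^ l = 1) (hr : r.Prime) (hq : q.Prime) (hq2 : q ≠ 2) (hrq : r ≠ q)
    (hlr : l ≠ r) (hlq : l ≠ q) (A : MulAut V) (hA : A ^ q ^ (n + 1) = 1)
    (hfpV : ∀ v : V, A v = v → v = 1) (R : Subgroup (MulAut V)) (hR : IsPGroup r R)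
    (hAR : A ∈ normalizer (R : Set (MulAut V))) (hfpR : ∀ x ∈ R, A * x * A⁻¹ = x → x = 1) :
    ∀ x ∈ R, A ^ q ^ n * x * (A ^ q ^ n)⁻¹ = x := by
  classical
  let k := AlgebraicClosure (ZMod l)
  haveI : CharP k l := charP_of_injective_algebraMap (algebraMap (ZMod l) k).injective l
  obtain ⟨hfd, -⟩ := finrank_addHom (V := V) hV k
  have hcast : ∀ s : ℕ, s.Prime → l ≠ s → (s : k) ≠ 0 := fun s hs hls e =>
    hls ((Nat.prime_dvd_prime_iff_eq hl.out hs).1 ((CharP.cast_eq_zero_iff k l s).1 e))
  let c : MulAut V →* MulAut V := MonoidHom.id _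
  have hfix : ∀ f : Additive V →+ k, dRep k c A f = f → f = 0 := by
    intro f hf
    refine AddMonoidHom.ext fun w => ?_
    have hsurj : Function.Surjective fun v : V => v⁻¹ * A v := by
      refine Finite.injective_iff_surjective.1 fun v v' e => ?_
      have h1 : A (v' * v⁻¹) = v' * v⁻¹ := by
        have e' : A v' = v' * (v⁻¹ * A v) := by rw [show v⁻¹ * A v = v'⁻¹ * A v' from e, mul_inv_cancel_left]
        rw [map_mul, map_inv, e']
        group
      exact (mul_inv_eq_one.1 (hfpV _ h1)).symm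
    obtain ⟨v, hv⟩ := hsurj w.toMul
    have hv' : v⁻¹ * A v = w.toMul := hv
    obtain rfl : w = Additive.ofMul (v⁻¹ * A v) := by rw [hv']; rfl
    rw [ofMul_mul, ofMul_inv, map_add, map_neg, AddMonoidHom.zero_apply, neg_add_eq_zero]
    have h2 := DFunLike.congr_fun hf (Additive.ofMul (A v))
    rw [dRep_apply] at h2
    rw [← h2]
    show f (Additive.ofMul v) = f (Additive.ofMul (A⁻¹ (A v)))
    rw [MulAut.inv_apply_self]
  intro x hx
  have h := centralizes (dRep k c) hr hq hq2 hrq (hcast r hr hlr) (hcast q hq hlq) A hA R hR hAR hfpR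
    hfix x hx
  have h2 : dRep k c (x⁻¹ * (A ^ q ^ n * x * (A ^ q ^ n)⁻¹)) = 1 := by
    rw [map_mul, h, ← map_mul, inv_mul_cancel, map_one]
  exact (inv_mul_eq_one.1 (eq_one_of_dRep (l := l) hV c h2)).symm

section FixedPointFree

variable {G : Type u} [Group G] [Finite G] {σ : MulAut G} (hfp : ∀ g, σ g = g → g = 1)
include hfp

theorem mem_of_fpf (N : Subgroup G) (hN : ∀ z ∈ N, σ z ∈ N) {x : G} (hx : x⁻¹ * σ x ∈ N) : x ∈ N := by
  have hinj : ∀ z z' : G, z⁻¹ * σ z = z'⁻¹ * σ z' → z = z' := by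
    intro z z' e
    have h1 : σ (z' * z⁻¹) = z' * z⁻¹ := by
      have e' : σ z' = z' * (z⁻¹ * σ z) := by rw [e, mul_inv_cancel_left]
      rw [map_mul, map_inv, e']
      group
    exact (mul_inv_eq_one.1 (hfp _ h1)).symm
  let f : N → N := fun z => ⟨(z : G)⁻¹ * σ z, mul_mem (inv_mem z.2) (hN z z.2)⟩
  obtain ⟨z, hz⟩ := (Finite.injective_iff_surjective (f := f)).1
    (fun z z' e => Subtype.ext (hinj _ _ (congrArg Subtype.val e))) ⟨_, hx⟩
  rw [hinj x z (congrArg Subtype.val hz).symm]
  exact z.2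

theorem not_dvd_card {p n : ℕ} (hp : p.Prime) (hσ : σ ^ p ^ n = 1) : ¬ p ∣ Nat.card G := by
  haveI := Fact.mk hp
  have hP : IsPGroup p (zpowers σ) := by
    obtain ⟨k, -, hk⟩ := (Nat.dvd_prime_pow hp).1 (orderOf_dvd_of_pow_eq_one hσ)
    exact IsPGroup.of_card (n := k) (by rw [Nat.card_zpowers, hk])
  intro hd
  obtain ⟨b, hb, hne⟩ := hP.exists_fixed_point_of_prime_dvd_card_of_fixed_point G hd
    (a := (1 : G)) (fun g => map_one (g : MulAut G))
  exact hne (hfp b (hb ⟨σ, mem_zpowers σ⟩)).symm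

end FixedPointFree

/-- The action on an invariant characteristic subgroup. -/
def resChar {G : Type u} [Group G] (N : Subgroup G) [hN : N.Characteristic] : MulAut G →* MulAut N where
  toFun f := ((f : G ≃* G).subgroupMap N).trans
    (MulEquiv.subgroupCongr (characteristic_iff_map_eq.1 hN f))
  map_one' := MulEquiv.ext fun _ => Subtype.ext rfl
  map_mul' _ _ := MulEquiv.ext fun _ => Subtype.ext rfl

theorem resChar_apply {G : Type u} [Group G] (N : Subgroup G) [N.Characteristic] (f : MulAut G) (z : N) :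
    ((resChar N f z : N) : G) = f z := rfl

/-- The action on the quotient by a characteristic subgroup. -/
def quotChar {G : Type u} [Group G] (N : Subgroup G) [N.Normal] [hN : N.Characteristic] :
    MulAut G →* MulAut (G ⧸ N) where
  toFun f := QuotientGroup.congr N N f (characteristic_iff_map_eq.1 hN f)
  map_one' := MulEquiv.ext fun v => by induction v using QuotientGroup.induction_on with | _ x => rfl
  map_mul' f g := MulEquiv.ext fun v => by induction v using QuotientGroup.induction_on with | _ x => rfl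

theorem quotChar_apply {G : Type u} [Group G] (N : Subgroup G) [N.Normal] [N.Characteristic]
    (f : MulAut G) (x : G) : quotChar N f (x : G ⧸ N) = ((f x : G) : G ⧸ N) := rfl

theorem conj_aut {G : Type u} [Group G] (σ : MulAut G) (x : G) :
    σ * MulAut.conj x * σ⁻¹ = MulAut.conj (σ x) :=
  MulEquiv.ext fun g => by
    show σ (x * σ⁻¹ g * x⁻¹) = σ x * g * (σ x)⁻¹
    rw [map_mul, map_mul, map_inv, MulAut.apply_inv_self]

/-- The socle of a fixed-point-free operator is trivial on an `r`-section over the Fitting subgroup. -/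
theorem inv_mul_mem_fitting {G : Type u} [Group G] [Finite G] {p n : ℕ} (hp : p.Prime) (hp2 : p ≠ 2)
    (σ : MulAut G) (hσ : σ ^ p ^ (n + 1) = 1) (hfp : ∀ g, σ g = g → g = 1) {r : ℕ} [hrf : Fact r.Prime]
    (hrp : r ≠ p) (X : Subgroup G) [X.Normal] (hXσ : ∀ x ∈ X, σ x ∈ X)
    (hX : ∀ x ∈ X, ∃ k : ℕ, x ^ r ^ k ∈ Cfsg.fittingSubgroup G) :
    ∀ x ∈ X, x⁻¹ * (σ ^ p ^ n) x ∈ Cfsg.fittingSubgroup G := by
  classical
  set F := Cfsg.fittingSubgroup G
  set τ := σ ^ p ^ n with hτ
  have hpG := not_dvd_card hfp hp hσ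
  have hτX : ∀ x ∈ X, τ x ∈ X := by
    intro x hx
    have : ∀ i : ℕ, (σ ^ i) x ∈ X := fun i => by
      induction i with
      | zero => exact hx
      | succ i hi => rw [pow_succ']; exact hXσ _ hi
    exact this _
  set E : Subgroup G := ⨆ l : {l : Nat.Primes // (l : ℕ) ≠ r}, Cfsg.pCore (l.1 : ℕ) G with hE
  haveI : ∀ l : {l : Nat.Primes // (l : ℕ) ≠ r}, (Cfsg.pCore (l.1 : ℕ) G).Normal :=
    fun l => CfsgLib.Coprime.pCore_normal' _
  haveI : E.Normal := Subgroup.iSup_normal _
  -- the action on each Frattini quotient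
  have hmain : ∀ x ∈ X, ∀ l : {l : Nat.Primes // (l : ℕ) ≠ r}, ∀ z ∈ Cfsg.pCore (l.1 : ℕ) G,
      (x⁻¹ * τ x) * z * (x⁻¹ * τ x)⁻¹ * z⁻¹ ∈
        (frattini (Cfsg.pCore (l.1 : ℕ) G)).map (Cfsg.pCore (l.1 : ℕ) G).subtype := by
    intro x hx l
    obtain ⟨⟨l, hlp⟩, hlr⟩ := l
    haveI := Fact.mk hlp
    set L := Cfsg.pCore l G with hL
    haveI : L.Characteristic := CfsgLib.Coprime.pCore_characteristic l
    intro z hz
    show (x⁻¹ * τ x) * z * (x⁻¹ * τ x)⁻¹ * z⁻¹ ∈ (frattini L).map L.subtype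
    by_cases hlpq : l = p
    · have hz1 : z = 1 := by
        obtain ⟨k, hk⟩ := CfsgLib.Coprime.pCore_isPGroup (G := G) l ⟨z, hz⟩
        refine orderOf_eq_one_iff.1 (Nat.eq_one_of_dvd_coprimes
          ((hp.coprime_iff_not_dvd.2 hpG).symm.pow_right k) (orderOf_dvd_natCard z)
          (orderOf_dvd_of_pow_eq_one ?_))
        rw [← hlpq]
        exact congrArg Subtype.val hk
      rw [hz1, mul_one, inv_one, mul_one, mul_inv_cancel]
      exact one_mem _
    have hLp : IsPGroup l L := CfsgLib.Coprime.pCore_isPGroup l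
    letI : CommGroup (L ⧸ frattini L) := { (inferInstance : Group (L ⧸ frattini L)) with
      mul_comm := fun u v => by
        obtain ⟨a, rfl⟩ := QuotientGroup.mk_surjective u
        obtain ⟨b, rfl⟩ := QuotientGroup.mk_surjective v
        rw [← QuotientGroup.mk_mul, ← QuotientGroup.mk_mul, QuotientGroup.eq]
        have h1 := CfsgLib.Coprime.commutator_le_frattini hLp
          (commutator_mem_commutator (mem_top (b⁻¹)) (mem_top (a⁻¹)))
        rwa [commutatorElement_def, inv_inv, inv_inv,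
          show b⁻¹ * a⁻¹ * b * a = (a * b)⁻¹ * (b * a) by group] at h1 }
    let Θ : MulAut G →* MulAut (L ⧸ frattini L) := (quotChar (frattini L)).comp (resChar L)
    let θ : G →* MulAut (L ⧸ frattini L) := Θ.comp MulAut.conj
    have hθσ : ∀ g, θ (σ g) = Θ σ * θ g * (Θ σ)⁻¹ := fun g => by
      show Θ (MulAut.conj (σ g)) = _
      rw [← conj_aut, map_mul, map_mul, map_inv]
      rfl
    have hF : F ≤ θ.ker := by
      rw [show F = _ from CfsgLib.Coprime.fitting_eq_iSup_pCore]
      refine iSup_le fun s => ?_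
      intro y hy
      rw [MonoidHom.mem_ker]
      refine MulEquiv.ext fun v => ?_
      obtain ⟨w, rfl⟩ := QuotientGroup.mk_surjective v
      show ((resChar L (MulAut.conj y) w : L) : L ⧸ frattini L) = (w : L ⧸ frattini L)
      by_cases hs : (s : ℕ) = l
      · rw [hs] at hy
        rw [show resChar L (MulAut.conj y) w = (⟨y, hy⟩ : L) * w * (⟨y, hy⟩ : L)⁻¹ from Subtype.ext rfl,
          QuotientGroup.mk_mul, QuotientGroup.mk_mul, QuotientGroup.mk_inv, mul_comm ((⟨y, hy⟩ : L) : L ⧸ frattini L),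
          mul_inv_cancel_right]
      · haveI : Fact (s : ℕ).Prime := ⟨s.2⟩
        have hd := (CfsgLib.Coprime.pCore_isPGroup (G := G) (s : ℕ)).disjoint_of_ne _ _ hs _ _ hLp
        have hc := Subgroup.commute_of_normal_of_disjoint _ _ (CfsgLib.Coprime.pCore_normal' (G := G) (s : ℕ))
          (CfsgLib.Coprime.pCore_normal' (G := G) l) hd y w hy w.2
        congr 1
        refine Subtype.ext ?_
        show y * (w : G) * y⁻¹ = w
        rw [hc.eq, mul_inv_cancel_right]
    set R := X.map θ with hRdef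
    have hRp : IsPGroup r R := by
      rintro ⟨_, y, hy, rfl⟩
      obtain ⟨k, hk⟩ := hX y hy
      refine ⟨k, Subtype.ext ?_⟩
      rw [SubgroupClass.coe_pow, OneMemClass.coe_one, ← map_pow]
      exact hF hk
    have hker : ∀ g ∈ θ.ker, σ g ∈ θ.ker := fun g hg => by
      rw [MonoidHom.mem_ker] at hg ⊢
      rw [hθσ, hg, mul_one, mul_inv_cancel]
    have h := aut_centralizes (V := L ⧸ frattini L) (l := l) (r := r) (q := p) (n := n)
      (fun v => by
        obtain ⟨a, rfl⟩ := QuotientGroup.mk_surjective v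
        rw [← QuotientGroup.mk_pow, QuotientGroup.eq_one_iff]
        exact CfsgLib.Coprime.pow_mem_frattini hLp a)
      hrf.out hp hp2 hrp hlr hlpq (Θ σ) (by rw [← map_pow, hσ, map_one])
      (fun v hv => by
        obtain ⟨a, rfl⟩ := QuotientGroup.mk_surjective v
        have hv' : ((resChar L σ a : L) : L ⧸ frattini L) = (a : L ⧸ frattini L) := hv
        have h1 : (a : G)⁻¹ * σ a ∈ (frattini L).map L.subtype :=
          ⟨a⁻¹ * resChar L σ a, QuotientGroup.eq.1 hv'.symm, rfl⟩
        have h2 := mem_of_fpf hfp _ (by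
          rintro _ ⟨b, hb, rfl⟩
          exact ⟨resChar L σ b, characteristic_iff_map_le.1 inferInstance (resChar L σ)
            (mem_map_of_mem _ hb), rfl⟩) h1
        obtain ⟨b, hb, e⟩ := h2
        exact (QuotientGroup.eq_one_iff _).2 ((Subtype.ext e : b = a) ▸ hb))
      R hRp
      (by
        refine mem_normalizer_fintype ?_
        rintro _ ⟨y, hy, rfl⟩
        exact ⟨σ y, hXσ y hy, hθσ y⟩)
      (by
        rintro _ ⟨y, hy, rfl⟩ e
        rw [← hθσ] at e
        exact mem_of_fpf hfp θ.ker hker (show y⁻¹ * σ y ∈ θ.ker by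
          rw [MonoidHom.mem_ker, map_mul, map_inv, e, inv_mul_cancel]))
      (θ x) (mem_map_of_mem θ hx)
    have hθτ : θ (τ x) = θ x := by
      rw [← map_pow, ← hτ] at h
      refine Eq.trans ?_ h
      show Θ (MulAut.conj (τ x)) = _
      rw [← conj_aut, map_mul, map_mul, map_inv]
      rfl
    have h3 : θ (x⁻¹ * τ x) = 1 := by rw [map_mul, map_inv, hθτ, inv_mul_cancel]
    have h4 := DFunLike.congr_fun h3 ((⟨z, hz⟩ : L) : L ⧸ frattini L)
    have h5 : ((resChar L (MulAut.conj (x⁻¹ * τ x)) ⟨z, hz⟩ : L) : L ⧸ frattini L) =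
        ((⟨z, hz⟩ : L) : L ⧸ frattini L) := h4
    rw [eq_comm, QuotientGroup.eq] at h5
    haveI : (frattini L).Normal := inferInstance
    have h6 := (inferInstance : (frattini L).Normal).conj_mem _ h5 ⟨z, hz⟩
    refine ⟨_, h6, ?_⟩
    show z * (z⁻¹ * ((x⁻¹ * τ x) * z * (x⁻¹ * τ x)⁻¹)) * z⁻¹ = _
    group
  -- the `r`-elements centralize `E`
  intro x hx
  set d := x⁻¹ * τ x with hd
  have hdX : d ∈ X := mul_mem (inv_mem hx) (hτX x hx)
  obtain ⟨k, hk⟩ := hX d hdX
  haveI : F.Normal := CfsgLib.Coprime.fitting_normal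
  have hk' : QuotientGroup.mk' F d ^ r ^ k = 1 := by
    rw [← map_pow]; exact (QuotientGroup.eq_one_iff _).2 hk
  obtain ⟨h, hh, hhd, hhp⟩ := exists_lift_pElement (QuotientGroup.mk' F) (L := zpowers d)
    (mem_zpowers d) hk'
  have hhX : h ∈ X := zpowers_le.2 hdX hh
  set C := X ⊓ centralizer (E : Set G) with hC
  have hhC : h ∈ C := by
    refine Subgroup.mem_inf.2 ⟨hhX, ?_⟩
    suffices hs : E ≤ centralizer (zpowers h : Set G) from le_centralizer_iff.1 hs (mem_zpowers h)
    refine iSup_le fun l => le_centralizer_iff.1 ?_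
    haveI : Fact (l.1 : ℕ).Prime := ⟨l.1.2⟩
    set L := Cfsg.pCore (l.1 : ℕ) G
    haveI : L.Normal := CfsgLib.Coprime.pCore_normal' _
    haveI : L.Characteristic := CfsgLib.Coprime.pCore_characteristic _
    set Φ := (frattini L).map L.subtype
    haveI : Φ.Normal := CfsgLib.Coprime.map_subtype_normal_of_characteristic L (frattini L)
    have hS : ∀ g ∈ zpowers h, ∀ z ∈ L, g * z * g⁻¹ * z⁻¹ ∈ Φ := by
      intro g hg z hz
      obtain ⟨i, rfl⟩ := mem_zpowers_iff.1 ((zpowers_le.2 hh) hg)
      have hcd : ∀ w ∈ L, Commute (QuotientGroup.mk' Φ d) (QuotientGroup.mk' Φ w) := fun w hw => by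
        rw [← commutatorElement_eq_one_iff_commute, ← map_commutatorElement]
        exact (QuotientGroup.eq_one_iff _).2 (by rw [commutatorElement_def]; exact hmain x hx l w hw)
      refine (QuotientGroup.eq_one_iff _).1 ?_
      show QuotientGroup.mk' Φ (d ^ i * z * (d ^ i)⁻¹ * z⁻¹) = 1
      rw [← commutatorElement_def, map_commutatorElement, commutatorElement_eq_one_iff_commute, map_zpow]
      exact (hcd z hz).zpow_left i
    refine CfsgLib.Coprime.le_centralizer_of_trivial_on_frattini_quotient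
      (by rw [normalizer_eq_top]; exact le_top) ?_ hS
    obtain ⟨a, ha⟩ := IsPGroup.iff_card.1 hhp
    obtain ⟨b, hb⟩ := IsPGroup.iff_card.1 ((CfsgLib.Coprime.pCore_isPGroup (G := G) (l.1 : ℕ)).to_subgroup
      (frattini L))
    rw [ha, hb]
    exact Nat.Coprime.pow a b ((Nat.coprime_primes hrf.out l.1.2).2 (Ne.symm l.2))
  have hCn : C.Normal := inferInstance
  have hCnil : Group.IsNilpotent C := by
    let g : C →* G ⧸ E := (QuotientGroup.mk' E).comp C.subtype
    have himg : IsPGroup r g.range := by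
      rintro ⟨_, c, rfl⟩
      obtain ⟨k, hk⟩ := hX c (Subgroup.mem_inf.1 c.2).1
      have hFle : F ≤ Cfsg.pCore r G ⊔ E := by
        rw [show F = _ from CfsgLib.Coprime.fitting_eq_iSup_pCore]
        refine iSup_le fun s => ?_
        by_cases hs : (s : ℕ) = r
        · exact le_sup_of_le_left (hs ▸ le_rfl)
        · exact le_sup_of_le_right (le_iSup (fun l : {l : Nat.Primes // (l : ℕ) ≠ r} =>
            Cfsg.pCore (l.1 : ℕ) G) ⟨s, hs⟩)
      have h1 := mem_map_of_mem (QuotientGroup.mk' E) (hFle hk)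
      rw [Subgroup.map_sup, QuotientGroup.map_mk'_self, sup_bot_eq] at h1
      obtain ⟨j, hj⟩ := (CfsgLib.Coprime.pCore_isPGroup (G := G) r).map (QuotientGroup.mk' E) ⟨_, h1⟩
      refine ⟨k + j, Subtype.ext ?_⟩
      have hj' := congrArg Subtype.val hj
      rw [SubgroupClass.coe_pow, OneMemClass.coe_one] at hj'
      rw [SubgroupClass.coe_pow, OneMemClass.coe_one, pow_add, pow_mul]
      show ((QuotientGroup.mk' E) (c : G) ^ r ^ k) ^ r ^ j = 1
      rw [← map_pow]
      exact hj'
    haveI : Group.IsNilpotent g.range := himg.isNilpotent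
    refine Subgroup.isNilpotent_of_ker_le_center g.rangeRestrict ?_
    rw [MonoidHom.ker_rangeRestrict]
    intro c hc
    have hcE : (c : G) ∈ E := (QuotientGroup.eq_one_iff (c : G)).1 hc
    rw [mem_center_iff]
    intro e
    exact Subtype.ext (mem_centralizer_iff.1 (Subgroup.mem_inf.1 e.2).2 _ hcE).symm
  have hhF : h ∈ F := CfsgLib.Coprime.le_fitting hCnil hhC
  refine (QuotientGroup.eq_one_iff d).1 ?_
  show QuotientGroup.mk' F d = 1
  rw [← hhd]
  exact (QuotientGroup.eq_one_iff h).2 hhF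

/-- **Shult–Gross.** -/
theorem fitting_chain : ∀ (n : ℕ) (G : Type u) [Group G] [Finite G], Group.IsSolvable G →
    ∀ {p : ℕ}, p.Prime → p ≠ 2 → ∀ σ : MulAut G, σ ^ p ^ n = 1 → (∀ g, σ g = g → g = 1) →
      ∃ F : Fin (n + 1) → Subgroup G, F 0 = ⊥ ∧ F (Fin.last n) = ⊤ ∧ Monotone F ∧
        (∀ i, (F i).Normal) ∧ ∀ i : Fin n, ∃ k : ℕ, (F i.succ).lowerCentralSeries k ≤ F i.castSucc := by
  intro n
  induction n with
  | zero =>
    intro G _ _ _ p _ _ σ hσ hfp
    rw [pow_zero, pow_one] at hσ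
    refine ⟨fun _ => ⊥, rfl, ?_, monotone_const, fun _ => inferInstance, fun i => i.elim0⟩
    exact eq_comm.1 (eq_bot_iff.2 fun g _ => mem_bot.2 (hfp g (by rw [hσ]; rfl)))
  | succ n ih =>
    intro G _ _ hG p hp hp2 σ hσ hfp
    haveI := hG
    set F₁ := Cfsg.fittingSubgroup G with hF₁
    haveI : F₁.Normal := CfsgLib.Coprime.fitting_normal
    haveI : F₁.Characteristic := CfsgLib.Coprime.fitting_characteristic
    haveI hQsol : Group.IsSolvable (G ⧸ F₁) := Group.isSolvable_of_surjective (QuotientGroup.mk'_surjective F₁)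
    set σ' := quotChar F₁ σ with hσ'
    have hpG := not_dvd_card hfp hp hσ
    set τ := σ ^ p ^ n with hτ
    set τ' := quotChar F₁ τ with hτ'
    -- trivial on the Fitting subgroup of the quotient
    set K := Cfsg.fittingSubgroup (G ⧸ F₁) with hK
    have hτK : ∀ z ∈ K, τ' z = z := by
      have hle : K ≤ τ'.toMonoidHom.eqLocus (MonoidHom.id _) := by
        rw [show K = _ from CfsgLib.Coprime.fitting_eq_iSup_pCore]
        refine iSup_le fun r => ?_
        haveI : Fact (r : ℕ).Prime := ⟨r.2⟩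
        intro z hz
        obtain ⟨x, rfl⟩ := QuotientGroup.mk_surjective z
        show τ' (x : G ⧸ F₁) = (x : G ⧸ F₁)
        rw [hτ', quotChar_apply, eq_comm, QuotientGroup.eq]
        by_cases hrp : (r : ℕ) = p
        · have hd : orderOf (x : G ⧸ F₁) = 1 := by
            obtain ⟨k, hk⟩ := CfsgLib.Coprime.pCore_isPGroup (G := G ⧸ F₁) (r : ℕ) ⟨_, hz⟩
            refine Nat.eq_one_of_dvd_coprimes ((hp.coprime_iff_not_dvd.2 hpG).symm.pow_right k)
              ((_root_.orderOf_dvd_natCard _).trans (Subgroup.card_quotient_dvd_card F₁)) ?_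
            exact orderOf_dvd_of_pow_eq_one (by
              rw [← hrp]
              exact congrArg Subtype.val hk)
          have hxF : x ∈ F₁ := (QuotientGroup.eq_one_iff x).1 (orderOf_eq_one_iff.1 hd)
          exact mul_mem (inv_mem hxF) (characteristic_iff_map_le.1 inferInstance τ (mem_map_of_mem _ hxF))
        · haveI : (Cfsg.pCore (r : ℕ) (G ⧸ F₁)).Normal := CfsgLib.Coprime.pCore_normal' _
          refine inv_mul_mem_fitting hp hp2 σ hσ hfp hrp
            ((Cfsg.pCore (r : ℕ) (G ⧸ F₁)).comap (QuotientGroup.mk' F₁)) ?_ ?_ x hz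
          · intro y hy
            exact characteristic_iff_map_le.1 (CfsgLib.Coprime.pCore_characteristic (G := G ⧸ F₁) (r : ℕ))
              σ' ⟨_, hy, rfl⟩
          · intro y hy
            obtain ⟨k, hk⟩ := CfsgLib.Coprime.pCore_isPGroup (G := G ⧸ F₁) (r : ℕ) ⟨_, hy⟩
            refine ⟨k, (QuotientGroup.eq_one_iff _).1 ?_⟩
            have := congrArg Subtype.val hk
            rwa [SubgroupClass.coe_pow, OneMemClass.coe_one] at this
      exact fun z hz => hle hz
    -- hence trivial on the quotient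
    have hτ1 : τ' = 1 := by
      refine MulEquiv.ext fun g => ?_
      haveI : K.Normal := CfsgLib.Coprime.fitting_normal
      have hk : g⁻¹ * τ' g ∈ K := by
        refine CfsgLib.Coprime.centralizer_fitting_le (mem_centralizer_iff.2 fun z hz => ?_)
        have h1 := hτK _ ((inferInstance : K.Normal).conj_mem z hz g)
        rw [map_mul, map_mul, map_inv, hτK z hz] at h1
        calc z * (g⁻¹ * τ' g) = g⁻¹ * (g * z * g⁻¹) * τ' g := by group
          _ = g⁻¹ * (τ' g * z * (τ' g)⁻¹) * τ' g := by rw [h1]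
          _ = g⁻¹ * τ' g * z := by group
      have hit : ∀ i : ℕ, (τ' ^ i) g = g * (g⁻¹ * τ' g) ^ i := by
        intro i
        induction i with
        | zero => simp
        | succ i hi =>
          rw [pow_succ', MulAut.mul_apply, hi, map_mul, hτK _ (pow_mem hk i), pow_succ', ← mul_assoc,
            mul_inv_cancel_left]
      have hp' := hit p
      rw [hτ', ← map_pow, hτ, ← pow_mul, ← pow_succ, hσ, map_one, MulAut.one_apply, left_eq_mul] at hp'
      have hone : g⁻¹ * τ' g = 1 := orderOf_eq_one_iff.1 (Nat.eq_one_of_dvd_coprimes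
        (hp.coprime_iff_not_dvd.2 hpG).symm
        ((_root_.orderOf_dvd_natCard _).trans (Subgroup.card_quotient_dvd_card F₁))
        (orderOf_dvd_of_pow_eq_one hp'))
      rw [MulAut.one_apply]
      exact (inv_mul_eq_one.1 hone).symm
    have hfp' : ∀ g, σ' g = g → g = 1 := by
      intro g hg
      obtain ⟨x, rfl⟩ := QuotientGroup.mk_surjective g
      rw [hσ', quotChar_apply, eq_comm, QuotientGroup.eq] at hg
      exact (QuotientGroup.eq_one_iff x).2 (mem_of_fpf hfp F₁
        (fun z hz => characteristic_iff_map_le.1 inferInstance σ (mem_map_of_mem _ hz)) hg)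
    obtain ⟨Fb, hF0, hFl, hFm, hFn, hFk⟩ := ih (G ⧸ F₁) hQsol hp hp2 σ'
      (by rw [hσ', ← map_pow, ← hτ, ← hτ', hτ1]) hfp'
    let F : Fin (n + 1 + 1) → Subgroup G :=
      Fin.cases ⊥ fun i => (Fb i).comap (QuotientGroup.mk' F₁)
    refine ⟨F, rfl, ?_, ?_, ?_, ?_⟩
    · rw [← Fin.succ_last]
      show (Fb (Fin.last n)).comap _ = ⊤
      rw [hFl, comap_top]
    · refine Fin.monotone_iff_le_succ.2 fun i => ?_
      induction i using Fin.cases with
      | zero => exact bot_le
      | succ i =>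
        rw [← Fin.succ_castSucc]
        exact comap_mono (hFm (Fin.castSucc_lt_succ (i := i)).le)
    · intro i
      induction i using Fin.cases with
      | zero => exact (inferInstance : (⊥ : Subgroup G).Normal)
      | succ i => exact (hFn i).comap _
    · intro i
      induction i using Fin.cases with
      | zero =>
        show ∃ k, ((Fb 0).comap (QuotientGroup.mk' F₁)).lowerCentralSeries k ≤ ⊥
        rw [hF0, MonoidHom.comap_bot, QuotientGroup.ker_mk']
        haveI := CfsgLib.Coprime.fitting_isNilpotent (G := G)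
        obtain ⟨k, hk⟩ := (Subgroup.isNilpotent_iff_lowerCentralSeries (S := F₁)).1 inferInstance
        exact ⟨k, hk.le⟩
      | succ i =>
        obtain ⟨k, hk⟩ := hFk i
        refine ⟨k, ?_⟩
        rw [← Fin.succ_castSucc]
        show ((Fb i.succ).comap (QuotientGroup.mk' F₁)).lowerCentralSeries k ≤
          (Fb i.castSucc).comap (QuotientGroup.mk' F₁)
        rw [← map_le_iff_le_comap, Subgroup.map_lowerCentralSeries,
          map_comap_eq_self_of_surjective (QuotientGroup.mk'_surjective F₁)]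
        exact hk

end CfsgLib.PGroup.ShultGross
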